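import Cfsg.Agent.Lib.Forms.Bridge
import Cfsg.Agent.Lib.Symplectic.Order
import Cfsg.Prelude.Def_GeometricClasses

/-!
Elements of prime order of even-dimensional orthogonal groups in characteristic two, and the
non-singular vectors they fix: subspace bounds, classification criteria, and the translation to
statements on invariant one-dimensional subspaces.
-/

set_option autoImplicit false

namespace Cfsg.Agent.Lib.Elusive19

open Module QuadraticMap Cfsg.Agent.Lib.Forms
open scoped Matrix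

variable {F : Type*} [Field F]
variable {V : Type*} [AddCommGroup V] [Module F V]
variable {V' : Type*} [AddCommGroup V'] [Module F V']

/-- A commutator element with trivial `r`-th power fixing only singular vectors. -/
def Mover (Q : QuadraticForm F V) (r : ℕ) : Prop :=
  ∃ g ∈ commutator (orth Q), g ^ r = 1 ∧ g ≠ 1 ∧ ∀ v : V, g.1 v = v → Q v = 0

theorem Mover.congr {Q : QuadraticForm F V} {Q' : QuadraticForm F V'} {r : ℕ} (hM : Mover Q r)
    (h : Q.Equivalent Q') : Mover Q' r := by
  obtain ⟨e⟩ := h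
  obtain ⟨g, hg, hgr, hne, hfix⟩ := hM
  refine ⟨orthCongr e g, (mem_commutator_equiv (orthCongr e) g).1 hg,
    by rw [← map_pow, hgr, map_one], fun h1 => hne ((orthCongr e).injective (h1.trans (map_one _).symm)),
    fun v hv => ?_⟩
  have hv' : e.toLinearEquiv (g.1 (e.toLinearEquiv.symm v)) = v := hv
  have h2 := hfix (e.toLinearEquiv.symm v)
    (e.toLinearEquiv.injective (hv'.trans (e.toLinearEquiv.apply_symm_apply v).symm))
  rw [← e.map_app] at h2
  exact (congrArg Q' (e.toLinearEquiv.apply_symm_apply v)).symm.trans h2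

theorem two_eq_zero [CharP F 2] : (2 : F) = 0 := by exact_mod_cast CharP.cast_eq_zero F 2

theorem eq_one_of_mul_self [CharP F 2] {a : F} (h : a * a = 1) : a = 1 := by
  have h0 : (a - 1) * (a - 1) = 0 := by
    linear_combination h + (1 - a) * two_eq_zero (F := F)
  exact sub_eq_zero.1 (mul_self_eq_zero.1 h0)

theorem mem_commutator_of_odd [CharP F 2] [Finite F] [FiniteDimensional F V]
    {Q : QuadraticForm F V} (hQ : Nondeg Q) (h5 : 5 ≤ finrank F V) {g : orth Q} {r : ℕ}
    (hr : Odd r) (hg : g ^ r = 1) : g ∈ commutator (orth Q) := by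
  have hi := index_commutator_two hQ two_eq_zero (by omega) (Or.inr (by omega))
  obtain ⟨k, rfl⟩ := hr
  have h1 : (g ^ 2) ^ (k + 1) = g := by
    rw [← pow_mul, show 2 * (k + 1) = 2 * k + 1 + 1 by ring, pow_succ, hg, one_mul]
  rw [← h1]
  exact pow_mem (by rw [pow_two]; exact Subgroup.mul_self_mem_of_index_two hi g) _

theorem exists_nonsing {Q : QuadraticForm F V} (hQ : Nondeg Q) [Nontrivial V] : ∃ v, Q v ≠ 0 := by
  by_contra! h
  obtain ⟨x, hx⟩ := exists_ne (0 : V)
  exact hx (hQ x fun y => by rw [polar, h, h, h, sub_zero, sub_zero])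

/-- A fixed-point free isometry of prime order permutes the vectors of value one freely. -/
theorem dvd_levelCard [Finite V] {Q : QuadraticForm F V} {r : ℕ} [hr : Fact r.Prime] (g : orth Q)
    (hgr : g ^ r = 1) (hfix : ∀ v : V, g.1 v = v → v = 0) : r ∣ levelCard Q 1 := by
  classical
  have := Fintype.ofFinite {v // Q v = (1 : F)}
  set σ := levelPerm Q 1 g with hσdef
  have hσ : σ ^ r ^ 1 = 1 := by rw [pow_one, hσdef, ← map_pow, hgr, map_one]
  have he : σ.supportᶜ = ∅ := by
    refine Finset.eq_empty_of_forall_notMem fun x hx => ?_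
    rw [Finset.mem_compl, Equiv.Perm.notMem_support] at hx
    have h1 := congrArg Subtype.val hx
    rw [hσdef, levelPerm_apply] at h1
    have h0 := x.2
    rw [hfix _ h1, QuadraticMap.map_zero] at h0
    exact zero_ne_one h0
  have h := Equiv.Perm.card_compl_support_modEq hσ
  rw [he, Finset.card_empty] at h
  rw [levelCard, Nat.card_eq_fintype_card]
  exact (Nat.modEq_zero_iff_dvd).1 h.symm

/-- A totally singular subspace of a minus form has dimension at most the Witt index. -/
theorem singular_finrank_le {m : ℕ} {a b : F}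
    (hab : ∀ z₁ z₂ : F, z₁ ^ 2 + a * z₁ * z₂ + b * z₂ ^ 2 = 0 → z₁ = 0 ∧ z₂ = 0)
    [Finite F] (W : Submodule F ((Fin m ⊕ Fin m → F) × (Fin 2 → F)))
    (hW : ∀ w ∈ W, ((qPlus m).prod (qBin a b)) w = 0) : finrank F W ≤ m := by
  let π : W →ₗ[F] (Fin m → F) :=
    ((LinearMap.funLeft F F Sum.inl).comp (LinearMap.fst F _ _)).comp W.subtype
  let ρ : (LinearMap.ker π) →ₗ[F] (Fin m → F) :=
    (((LinearMap.funLeft F F Sum.inr).comp (LinearMap.fst F _ _)).comp W.subtype).comp
      (LinearMap.ker π).subtype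
  have hker : ∀ k : LinearMap.ker π, (k.1.1.2 = 0) ∧ ∀ i, k.1.1.1 (Sum.inl i) = 0 := by
    intro k
    have h0 : ∀ i, k.1.1.1 (Sum.inl i) = 0 := fun i => congrFun (LinearMap.mem_ker.1 k.2) i
    refine ⟨?_, h0⟩
    have := hW _ k.1.2
    rw [QuadraticMap.prod_apply, qPlus_apply] at this
    simp only [h0, zero_mul, Finset.sum_const_zero, zero_add] at this
    exact qBin_anisotropic hab _ this
  have hinj : Function.Injective ρ := by
    rw [injective_iff_map_eq_zero]
    intro k hk
    obtain ⟨h2, h1⟩ := hker k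
    apply Subtype.ext
    apply Subtype.ext
    refine Prod.ext ?_ h2
    funext j
    rcases j with i | i
    · exact h1 i
    · exact congrFun hk i
  let D : LinearMap.BilinForm F (Fin m → F) := Matrix.toBilin' (1 : Matrix (Fin m) (Fin m) F)
  have hD : ∀ x y, D x y = ∑ i, x i * y i := fun x y => by
    simp [D, Matrix.toBilin'_apply', dotProduct]
  have hDn : D.Nondegenerate := LinearMap.BilinForm.nondegenerate_toBilin'_of_det_ne_zero' _ (by simp)
  have hDr : D.IsRefl := fun x y h => by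
    rw [hD] at h ⊢
    rw [← h]; exact Finset.sum_congr rfl fun i _ => mul_comm _ _
  have hle : LinearMap.range π ≤ D.orthogonal (LinearMap.range ρ) := by
    rintro _ ⟨x, rfl⟩
    rw [LinearMap.BilinForm.mem_orthogonal_iff]
    rintro _ ⟨k, rfl⟩
    show D (ρ k) (π x) = 0
    obtain ⟨h2, h1⟩ := hker k
    have hx := hW _ x.2
    have hxk := hW _ (W.add_mem x.2 k.1.2)
    rw [QuadraticMap.prod_apply, qPlus_apply] at hx hxk
    simp only [Prod.fst_add, Prod.snd_add, Pi.add_apply, h2, add_zero, h1, mul_add,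
      Finset.sum_add_distrib] at hxk
    rw [hD]
    calc ∑ i, ρ k i * π x i = ∑ i, x.1.1 (Sum.inl i) * k.1.1.1 (Sum.inr i) :=
          Finset.sum_congr rfl fun i _ => mul_comm _ _
      _ = 0 := by linear_combination hxk - hx
  have h1 := Submodule.finrank_mono hle
  rw [LinearMap.BilinForm.finrank_orthogonal hDn, Module.finrank_fintype_fun_eq_card,
    Fintype.card_fin] at h1
  have h2 := LinearMap.finrank_range_add_finrank_ker π
  have h3 := LinearMap.finrank_range_of_inj hinj
  have h4 := (LinearMap.range ρ).finrank_le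
  rw [Module.finrank_fintype_fun_eq_card, Fintype.card_fin] at h4
  omega

theorem singular_finrank_le_of_equiv [Finite F] [FiniteDimensional F V] {Q : QuadraticForm F V}
    {m : ℕ} {a b : F}
    (hab : ∀ z₁ z₂ : F, z₁ ^ 2 + a * z₁ * z₂ + b * z₂ ^ 2 = 0 → z₁ = 0 ∧ z₂ = 0)
    (h : Q.Equivalent ((qPlus m).prod (qBin a b))) (W : Submodule F V)
    (hW : ∀ w ∈ W, Q w = 0) : finrank F W ≤ m := by
  obtain ⟨e⟩ := h
  rw [← LinearEquiv.finrank_map_eq e.toLinearEquiv W]
  refine singular_finrank_le hab _ ?_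
  rintro _ ⟨w, hw, rfl⟩
  rw [← hW w hw]
  exact e.map_app w

/-- A form with a totally singular subspace of half the dimension is hyperbolic. -/
theorem equiv_qPlus [CharP F 2] [Finite F] [FiniteDimensional F V] {Q : QuadraticForm F V}
    (hQ : Nondeg Q) {d : ℕ} (hd : finrank F V = 2 * d) (W : Submodule F V)
    (hWd : d ≤ finrank F W) (hW : ∀ w ∈ W, Q w = 0) : Q.Equivalent (qPlus d) := by
  rcases classify Q hQ with ⟨m, hm, h⟩ | ⟨m, c, -, h2, -, -⟩ | ⟨m, a, b, hab, hm, h⟩
  · obtain rfl : m = d := by omega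
    exact h
  · exact absurd two_eq_zero h2
  · have := singular_finrank_le_of_equiv hab h W hW
    omega

section Involution

variable {Q : QuadraticForm F V}

theorem ker_big [CharP F 2] [FiniteDimensional F V] (g : orth Q) (hg : g * g = 1) :
    LinearMap.range (g.1.toLinearMap + LinearMap.id) ≤
        LinearMap.ker (g.1.toLinearMap + LinearMap.id) ∧
      finrank F V ≤ 2 * finrank F (LinearMap.ker (g.1.toLinearMap + LinearMap.id)) := by
  have hgg : ∀ v, g.1 (g.1 v) = v := fun v => by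
    have := congrArg (fun k : orth Q => k.1 v) hg
    simpa using this
  have hle : LinearMap.range (g.1.toLinearMap + LinearMap.id) ≤
      LinearMap.ker (g.1.toLinearMap + LinearMap.id) := by
    rintro _ ⟨v, rfl⟩
    rw [LinearMap.mem_ker]
    simp only [LinearMap.add_apply, LinearEquiv.coe_coe, LinearMap.id_apply, map_add, hgg]
    have : (2 : F) • (g.1 v + v) = 0 := by rw [two_eq_zero, zero_smul]
    rw [two_smul] at this
    rw [← this]; abel
  have h1 := LinearMap.finrank_range_add_finrank_ker (g.1.toLinearMap + LinearMap.id)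
  have h2 := Submodule.finrank_mono hle
  exact ⟨hle, by omega⟩

theorem fixed_of_mem_ker [CharP F 2] {g : orth Q} {v : V}
    (h : v ∈ LinearMap.ker (g.1.toLinearMap + LinearMap.id)) : g.1 v = v := by
  rw [LinearMap.mem_ker] at h
  simp only [LinearMap.add_apply, LinearEquiv.coe_coe, LinearMap.id_apply] at h
  rw [eq_neg_of_add_eq_zero_left h]
  have : (2 : F) • v = 0 := by rw [two_eq_zero, zero_smul]
  rw [two_smul] at this
  exact (eq_neg_of_add_eq_zero_left this).symm

theorem exists_fixed_minus [CharP F 2] [Finite F] [FiniteDimensional F V] {m : ℕ} {a b : F}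
    (hab : ∀ z₁ z₂ : F, z₁ ^ 2 + a * z₁ * z₂ + b * z₂ ^ 2 = 0 → z₁ = 0 ∧ z₂ = 0)
    (h : Q.Equivalent ((qPlus m).prod (qBin a b))) (hdim : finrank F V = 2 * m + 2) (g : orth Q)
    (hg : g * g = 1) : ∃ v, g.1 v = v ∧ Q v ≠ 0 := by
  by_contra! hne
  have := singular_finrank_le_of_equiv hab h _ fun w hw => hne w (fixed_of_mem_ker hw)
  have := (ker_big g hg).2
  omega

/-- In dimension twice an odd number an involution fixes a non-singular vector. -/
theorem exists_fixed_odd [CharP F 2] [FiniteDimensional F V] (hQ : Nondeg Q) {d : ℕ} (hd : Odd d)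
    (hdim : finrank F V = 2 * d) (g : orth Q) (hg : g * g = 1) :
    ∃ v, g.1 v = v ∧ Q v ≠ 0 := by
  by_contra! hne
  set n : V →ₗ[F] V := g.1.toLinearMap + LinearMap.id with hn
  obtain ⟨hle, hbig⟩ := ker_big g hg
  rw [← hn] at hle hbig
  have hsing : ∀ w ∈ LinearMap.ker n, Q w = 0 := fun w hw => hne w (fixed_of_mem_ker hw)
  let B : LinearMap.BilinForm F V := polarBilin Q
  have hBr : B.IsRefl := fun x y h => by rwa [polarBilin_apply_apply, polar_comm] at h
  have hperp : LinearMap.ker n ≤ B.orthogonal (LinearMap.ker n) := fun x hx => by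
    rw [LinearMap.BilinForm.mem_orthogonal_iff]
    intro y hy
    show polar Q y x = 0
    rw [polar, hsing _ (add_mem hy hx), hsing _ hy, hsing _ hx, sub_zero, sub_zero]
  have h1 := Submodule.finrank_mono hperp
  have horth : finrank F (B.orthogonal (LinearMap.ker n)) = 2 * d - finrank F (LinearMap.ker n) :=
    hdim ▸ LinearMap.BilinForm.finrank_orthogonal hQ.polarBilin _
  rw [horth] at h1
  have hk : finrank F (LinearMap.ker n) = d := by omega
  have h2 := LinearMap.finrank_range_add_finrank_ker n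
  have heq : LinearMap.range n = LinearMap.ker n :=
    Submodule.eq_of_le_of_finrank_le hle (by omega)
  have hself : B.orthogonal (LinearMap.ker n) = LinearMap.ker n :=
    (Submodule.eq_of_le_of_finrank_le hperp (by omega)).symm
  obtain ⟨C, hC⟩ := (LinearMap.ker n).exists_isCompl
  have hCd : finrank F C = d := by
    have := Submodule.finrank_add_eq_of_isCompl hC
    omega
  have key : ∀ v, polar Q v (n v) = 0 := fun v => by
    have e1 : g.1 v = v + n v := by
      simp only [hn, LinearMap.add_apply, LinearEquiv.coe_coe, LinearMap.id_apply]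
      have : (2 : F) • v = 0 := by rw [two_eq_zero, zero_smul]
      rw [two_smul] at this
      rw [add_comm, add_assoc, this, add_zero]
    have h3 : Q (v + n v) = Q v := by rw [← e1]; exact g.2 v
    have h4 : Q (n v) = 0 := hsing _ (heq ▸ LinearMap.mem_range_self n v)
    rw [polar, h3, h4, sub_self, sub_zero]
  let β : C →ₗ[F] C →ₗ[F] F := B.compl₁₂ C.subtype (n.comp C.subtype)
  have hβ : Cfsg.Agent.Lib.Symplectic.IsSympForm β := by
    refine ⟨fun x => key x.1, fun x hx => ?_⟩
    have hx' : x.1 ∈ B.orthogonal (LinearMap.ker n) := by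
      rw [LinearMap.BilinForm.mem_orthogonal_iff, ← heq]
      rintro _ ⟨y, rfl⟩
      show polar Q (n y) x.1 = 0
      have hy : y ∈ LinearMap.ker n ⊔ C := by rw [hC.sup_eq_top]; trivial
      obtain ⟨k, hk', c, hc, rfl⟩ := Submodule.mem_sup.1 hy
      rw [map_add, LinearMap.mem_ker.1 hk', zero_add, polar_comm]
      exact hx ⟨c, hc⟩
    rw [hself] at hx'
    exact Subtype.ext ((Submodule.mem_bot F).1 (hC.inf_eq_bot ▸ ⟨hx', x.2⟩))
  have := Cfsg.Agent.Lib.Symplectic.even_finrank hβ
  rw [hCd] at this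
  exact Nat.not_even_iff_odd.2 hd this

end Involution

section Statements

variable [CharP F 2] {ι : Type} [Fintype ι] [DecidableEq ι]
variable {Qf : QuadraticForm F (ι → F)} {f : (ι → F) → F}

theorem not_all_fix (hf : ∀ v, f v = Qf v) (hQ : Nondeg Qf) [Nonempty ι] {r : ℕ}
    (hM : Mover Qf r) :
    ¬ (∀ x : GL ι F, x ∈ Cfsg.Geo.omegaGL f →
      (∃ z : F, ((x ^ r : GL ι F) : Matrix ι ι F) = z • (1 : Matrix ι ι F)) →
      (∀ z : F, (x : Matrix ι ι F) ≠ z • (1 : Matrix ι ι F)) →
      ∃ W : Submodule F (ι → F), (Module.finrank F ↥W = 1 ∧ ∃ v ∈ W, f v ≠ 0) ∧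
        W.map (Matrix.toLin' (x : Matrix ι ι F)) ≤ W) := by
  intro h
  obtain ⟨g, hg, hgr, hne, hfix⟩ := hM
  set k := (isoOrth Qf hf).symm g with hk
  have hkc : k ∈ commutator (Cfsg.isometryGroup F f) :=
    (mem_commutator_equiv (isoOrth Qf hf).symm g).1 hg
  have happ : ∀ v, ((k : GL ι F) : Matrix ι ι F) *ᵥ v = g.1 v := fun v => by
    rw [← isoOrth_apply Qf hf k v, hk, MulEquiv.apply_symm_apply]
  have hns : ∀ z : F, ((k : GL ι F) : Matrix ι ι F) ≠ z • (1 : Matrix ι ι F) := by
    intro z hz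
    have hs : ∀ v, g.1 v = z • v := fun v => by
      rw [← happ, hz, Matrix.smul_mulVec, Matrix.one_mulVec]
    obtain ⟨v, hv⟩ := exists_nonsing hQ
    have h1 := g.2 v
    rw [hs, Q_smul] at h1
    have hz1 : z = 1 := eq_one_of_mul_self (mul_right_cancel₀ hv (h1.trans (one_mul _).symm))
    exact hne (Subtype.ext (LinearEquiv.ext fun v => by rw [hs, hz1, one_smul]; rfl))
  obtain ⟨W, ⟨hW1, v, hvW, hv⟩, hmap⟩ := h (k : GL ι F) ⟨k, hkc, rfl⟩
    ⟨1, by
      rw [one_smul, ← Subgroup.coe_pow, hk, ← map_pow, hgr, map_one]; rfl⟩ hns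
  have hv0 : (⟨v, hvW⟩ : W) ≠ 0 := fun e => hv (by
    rw [hf, show v = 0 from congrArg Subtype.val e, QuadraticMap.map_zero])
  obtain ⟨t, ht⟩ := exists_smul_eq_of_finrank_eq_one hW1 hv0
    ⟨_, hmap ⟨v, hvW, rfl⟩⟩
  have ht' : t • v = g.1 v := by
    rw [← happ]
    exact congrArg Subtype.val ht
  rw [hf] at hv
  have h1 := g.2 v
  rw [← ht', Q_smul] at h1
  have ht1 : t = 1 := eq_one_of_mul_self (mul_right_cancel₀ hv (h1.trans (one_mul _).symm))
  rw [ht1, one_smul] at ht'
  exact hv (hfix v ht'.symm)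

theorem all_fix_two (hf : ∀ v, f v = Qf v) (hQ : Nondeg Qf) [Nonempty ι]
    (hinv : ∀ g : orth Qf, g * g = 1 → ∃ v, g.1 v = v ∧ Qf v ≠ 0) (x : GL ι F)
    (hx : x ∈ Cfsg.Geo.omegaGL f)
    (hz : ∃ z : F, ((x ^ 2 : GL ι F) : Matrix ι ι F) = z • (1 : Matrix ι ι F)) :
    ∃ W : Submodule F (ι → F), (Module.finrank F ↥W = 1 ∧ ∃ v ∈ W, f v ≠ 0) ∧
        W.map (Matrix.toLin' (x : Matrix ι ι F)) ≤ W := by
  obtain ⟨k, -, rfl⟩ := hx
  obtain ⟨z, hz⟩ := hz
  set g := isoOrth Qf hf k with hg
  have happ : ∀ v, g.1 v = ((k : GL ι F) : Matrix ι ι F) *ᵥ v := isoOrth_apply Qf hf k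
  have hgg : ∀ v, (g * g).1 v = z • v := fun v => by
    rw [hg, ← map_mul, isoOrth_apply, ← pow_two]
    show ((((k : GL ι F) ^ 2 : GL ι F)) : Matrix ι ι F) *ᵥ v = _
    rw [show ((k : GL ι F) ^ 2 : GL ι F) = (Cfsg.isometryGroup F f).subtype k ^ 2 from rfl, hz,
      Matrix.smul_mulVec, Matrix.one_mulVec]
  have hz1 : z = 1 := by
    obtain ⟨v, hv⟩ := exists_nonsing hQ
    have h1 := (g * g).2 v
    rw [hgg, Q_smul] at h1
    exact eq_one_of_mul_self (mul_right_cancel₀ hv (h1.trans (one_mul _).symm))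
  have h1 : g * g = 1 := Subtype.ext (LinearEquiv.ext fun v => by rw [hgg, hz1, one_smul]; rfl)
  obtain ⟨v, hgv, hv⟩ := hinv g h1
  have hv0 : v ≠ 0 := fun e => hv (by rw [e, QuadraticMap.map_zero])
  refine ⟨Submodule.span F {v},
    ⟨finrank_span_singleton hv0, v, Submodule.mem_span_singleton_self v, by rwa [hf]⟩, ?_⟩
  rintro _ ⟨w, hw, rfl⟩
  obtain ⟨c, rfl⟩ := Submodule.mem_span_singleton.1 hw
  rw [map_smul, Matrix.toLin'_apply]
  refine Submodule.smul_mem _ _ ?_
  show ((k : GL ι F) : Matrix ι ι F) *ᵥ v ∈ _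
  rw [← happ, hgv]
  exact Submodule.mem_span_singleton_self v

omit [DecidableEq ι] in
/-- Non-singular lines correspond to vectors of value one. -/
theorem card_nonsing_lines [Finite F] (hf : ∀ v, f v = Qf v) :
    Nat.card {W : Submodule F (ι → F) // Module.finrank F ↥W = 1 ∧ ∃ v ∈ W, f v ≠ 0} =
      levelCard Qf 1 := by
  have hne : ∀ v : {v // Qf v = (1 : F)}, v.1 ≠ 0 := fun v e => by
    simpa [e] using v.2
  refine (Nat.card_congr (Equiv.ofBijective
    (fun v : {v // Qf v = (1 : F)} =>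
      (⟨Submodule.span F {v.1}, finrank_span_singleton (hne v), v.1,
        Submodule.mem_span_singleton_self _, by rw [hf, v.2]; exact one_ne_zero⟩ :
        {W : Submodule F (ι → F) // Module.finrank F ↥W = 1 ∧ ∃ v ∈ W, f v ≠ 0})) ⟨?_, ?_⟩)).symm
  · intro v w h
    have hvw : v.1 ∈ Submodule.span F {w.1} :=
      (show Submodule.span F {v.1} = Submodule.span F {w.1} from congrArg Subtype.val h) ▸
        Submodule.mem_span_singleton_self v.1
    obtain ⟨c, hc⟩ := Submodule.mem_span_singleton.1 hvw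
    have h1 := v.2
    rw [← hc, Q_smul, w.2, mul_one] at h1
    apply Subtype.ext
    rw [← hc, eq_one_of_mul_self h1, one_smul]
  · rintro ⟨W, hW1, v, hvW, hv⟩
    rw [hf] at hv
    obtain ⟨s, hs⟩ := exists_sqrt two_eq_zero (Qf v)⁻¹
    have hsv : Qf (s • v) = 1 := by rw [Q_smul, hs, inv_mul_cancel₀ hv]
    refine ⟨⟨s • v, hsv⟩, Subtype.ext ?_⟩
    refine Submodule.eq_of_le_of_finrank_eq ?_ ?_
    · exact (Submodule.span_singleton_le_iff_mem _ _).2 (W.smul_mem _ hvW)
    · rw [hW1]
      exact finrank_span_singleton (hne ⟨s • v, hsv⟩)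

end Statements

end Cfsg.Agent.Lib.Elusive19
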