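import Cfsg.Agent.Lib.Elusive19.OrthEven

/-!
Field models of even-dimensional orthogonal spaces in characteristic two carrying elements of
prime order that fix only singular vectors.
-/

set_option autoImplicit false

namespace Cfsg.Agent.Lib.Elusive19

open Module QuadraticMap Cfsg.Agent.Lib.Forms
open scoped commutatorElement

variable {F : Type*} [Field F] [Finite F] [CharP F 2]
variable {L : Type*} [Field L] [Algebra F L] [FiniteDimensional F L]

theorem two_L (F : Type*) [Field F] [CharP F 2] (L : Type*) [Field L] [Algebra F L] :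
    (2 : L) = 0 := by
  rw [← map_ofNat (algebraMap F L) 2, two_eq_zero, map_zero]

/-- The hyperbolic form `Tr (u w)` on `L × L`. -/
noncomputable def hypForm (F L : Type*) [Field F] [Field L] [Algebra F L] :
    QuadraticForm F (L × L) :=
  LinearMap.BilinMap.toQuadraticMap
    ((Algebra.traceForm F L).compl₁₂ (LinearMap.fst F L L) (LinearMap.snd F L L))

omit [Finite F] [CharP F 2] [FiniteDimensional F L] in
theorem hypForm_apply (p : L × L) : hypForm F L p = Algebra.trace F L (p.1 * p.2) := rfl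

omit [Finite F] [CharP F 2] [FiniteDimensional F L] in
theorem polar_hypForm (x y : L × L) :
    polar (hypForm F L) x y = Algebra.trace F L (x.1 * y.2 + y.1 * x.2) := by
  rw [polar, hypForm_apply, hypForm_apply, hypForm_apply, Prod.fst_add, Prod.snd_add,
    ← map_sub, ← map_sub]
  congr 1; ring

omit [CharP F 2] in
theorem hypForm_nondeg : Nondeg (hypForm F L) := by
  intro x hx
  have hn := traceForm_nondegenerate F L
  refine Prod.ext (hn.1 _ fun w => ?_) (hn.1 _ fun u => ?_)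
  · have := hx (0, w)
    rwa [polar_hypForm, zero_mul, add_zero, ← Algebra.traceForm_apply] at this
  · have := hx (u, 0)
    rwa [polar_hypForm, mul_zero, zero_add, mul_comm u, ← Algebra.traceForm_apply] at this

theorem hypForm_equiv {d : ℕ} (hd : finrank F L = d) : (hypForm F L).Equivalent (qPlus d) := by
  refine equiv_qPlus hypForm_nondeg (by rw [finrank_prod, hd]; ring)
    (LinearMap.range (LinearMap.inl F L L)) ?_ ?_
  · rw [LinearMap.finrank_range_of_inj LinearMap.inl_injective, hd]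
  · rintro _ ⟨u, rfl⟩
    rw [hypForm_apply, LinearMap.inl_apply, mul_zero, map_zero]

/-- `(u, w) ↦ (c u, c⁻¹ w)`. -/
noncomputable def scaleEquiv (F : Type*) {L : Type*} [Field F] [Field L] [Algebra F L] (c : Lˣ) :
    (L × L) ≃ₗ[F] (L × L) where
  toFun p := ((c : L) * p.1, ((c⁻¹ : Lˣ) : L) * p.2)
  map_add' x y := Prod.ext (mul_add _ _ _) (mul_add _ _ _)
  map_smul' a x := Prod.ext (mul_smul_comm a _ _) (mul_smul_comm a _ _)
  invFun p := (((c⁻¹ : Lˣ) : L) * p.1, (c : L) * p.2)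
  left_inv p := Prod.ext (by simp) (by simp)
  right_inv p := Prod.ext (by simp) (by simp)

/-- The scaling as an element of the orthogonal group. -/
noncomputable def scaleOrth (F : Type*) {L : Type*} [Field F] [Field L] [Algebra F L] (c : Lˣ) :
    orth (hypForm F L) :=
  ⟨scaleEquiv F c, fun v => by
    rw [hypForm_apply, hypForm_apply]
    congr 1
    show ((c : L) * v.1) * (((c⁻¹ : Lˣ) : L) * v.2) = _
    rw [Units.val_inv_eq_inv_val]
    field_simp⟩

omit [Finite F] [CharP F 2] [FiniteDimensional F L] in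
theorem scaleOrth_apply (c : Lˣ) (p : L × L) :
    (scaleOrth F c).1 p = ((c : L) * p.1, ((c⁻¹ : Lˣ) : L) * p.2) := rfl

/-- The scaling as a homomorphism. -/
noncomputable def scaleHom (F L : Type*) [Field F] [Field L] [Algebra F L] :
    Lˣ →* orth (hypForm F L) where
  toFun := scaleOrth F
  map_one' := Subtype.ext (LinearEquiv.ext fun p => by
    rw [scaleOrth_apply, inv_one, Units.val_one, one_mul, one_mul]; rfl)
  map_mul' a b := Subtype.ext (LinearEquiv.ext fun p => by
    show _ = (scaleOrth F a).1 ((scaleOrth F b).1 p)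
    rw [scaleOrth_apply, scaleOrth_apply, scaleOrth_apply, mul_inv, Units.val_mul, Units.val_mul]
    exact Prod.ext (mul_assoc _ _ _) (mul_assoc _ _ _))

/-- An element of order `r` of `Lˣ` gives a mover of the hyperbolic form. -/
theorem hyp_mover_odd (h5 : 5 ≤ 2 * finrank F L) {r : ℕ} (hr : Odd r) (ζ : Lˣ) (hζ : ζ ^ r = 1)
    (hne : ζ ≠ 1) : Mover (hypForm F L) r := by
  have h1 : ∀ c : Lˣ, c ≠ 1 → ∀ u : L, (c : L) * u = u → u = 0 := fun c hc u hu => by
    by_contra h
    exact hc (Units.ext (mul_right_cancel₀ h (hu.trans (one_mul u).symm)))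
  refine ⟨scaleHom F L ζ, mem_commutator_of_odd hypForm_nondeg (by rw [finrank_prod]; omega) hr
    (by rw [← map_pow, hζ, map_one]), by rw [← map_pow, hζ, map_one], ?_, ?_⟩
  · intro h
    have hh := congrArg (fun g : orth (hypForm F L) => (g.1 (1, 0)).1) h
    simp only [scaleHom, MonoidHom.coe_mk, OneHom.coe_mk, scaleOrth_apply, mul_one] at hh
    exact hne (Units.ext hh)
  · intro v hv
    have hv' : ((ζ : L) * v.1, ((ζ⁻¹ : Lˣ) : L) * v.2) = v := hv
    rw [hypForm_apply, h1 ζ hne v.1 (congrArg Prod.fst hv'), zero_mul, map_zero]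

section Frob

variable (σ : L ≃ₐ[F] L) (hσσ : ∀ x, σ (σ x) = x) {c₀ : L} (hσ : σ c₀ ≠ c₀)
include hσσ hσ

omit [Finite F] in
theorem exists_splitting : ∃ e : L, e + σ e = 1 := by
  have hd : c₀ + σ c₀ ≠ 0 := fun h => hσ (by
    linear_combination h - c₀ * two_L F L)
  refine ⟨c₀ / (c₀ + σ c₀), ?_⟩
  rw [map_div₀, map_add, hσσ, add_comm (σ c₀) c₀, ← add_div, div_self hd]

omit [Finite F] in
theorem trace_fixed {x : L} (hx : σ x = x) : Algebra.trace F L x = 0 := by
  obtain ⟨e, he⟩ := exists_splitting σ hσσ hσ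
  have h : x = e * x + σ (e * x) := by rw [map_mul, hx, ← add_mul, he, one_mul]
  rw [h, map_add, Algebra.trace_eq_of_algEquiv σ (e * x), ← two_mul, two_eq_zero, zero_mul]

/-- Involutions with totally singular fixed space. -/
theorem hyp_mover_two {c : Lˣ} (hc : (c : L) * σ c ≠ 1) : Mover (hypForm F L) 2 := by
  have key : ∀ κ : L, σ κ = κ → ∀ w : L, Algebra.trace F L (κ * σ w * w) = 0 := fun κ hκ w =>
    trace_fixed σ hσσ hσ (by rw [map_mul, map_mul, hκ, hσσ]; ring)
  let xE : L → (L × L) ≃ₗ[F] (L × L) := fun κ =>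
    { toFun := fun p => (p.1 + κ * σ p.2, p.2)
      map_add' := fun x y => Prod.ext (by
        show (x + y).1 + κ * σ (x + y).2 = x.1 + κ * σ x.2 + (y.1 + κ * σ y.2)
        rw [Prod.fst_add, Prod.snd_add, map_add]; ring) rfl
      map_smul' := fun a x => Prod.ext (by
        show (a • x).1 + κ * σ (a • x).2 = a • (x.1 + κ * σ x.2)
        rw [Prod.smul_fst, Prod.smul_snd, map_smul, smul_add, mul_smul_comm]) rfl
      invFun := fun p => (p.1 - κ * σ p.2, p.2)
      left_inv := fun p => Prod.ext (add_sub_cancel_right _ _) rfl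
      right_inv := fun p => Prod.ext (sub_add_cancel _ _) rfl }
  have hxQ : ∀ κ : L, σ κ = κ → xE κ ∈ orth (hypForm F L) := fun κ hκ v => by
    show hypForm F L (v.1 + κ * σ v.2, v.2) = _
    rw [hypForm_apply, hypForm_apply, add_mul, map_add, key κ hκ, add_zero]
  let x₁ : orth (hypForm F L) := ⟨xE 1, hxQ 1 (map_one σ)⟩
  have hN : σ ((c : L) * σ c) = (c : L) * σ c := by rw [map_mul, hσσ, mul_comm]
  have hκ : σ ((c : L) * σ c + 1) = (c : L) * σ c + 1 := by rw [map_add, hN, map_one]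
  let xk : orth (hypForm F L) := ⟨xE _, hxQ _ hκ⟩
  have heq : ⁅scaleHom F L c, x₁⁆ = xk := by
    rw [commutatorElement_def, mul_inv_eq_iff_eq_mul, mul_inv_eq_iff_eq_mul]
    refine Subtype.ext (LinearEquiv.ext fun p => ?_)
    show (scaleOrth F c).1 (xE 1 p) = xE _ (xE 1 ((scaleOrth F c).1 p))
    rw [scaleOrth_apply, scaleOrth_apply]
    show ((c : L) * (p.1 + 1 * σ p.2), ((c⁻¹ : Lˣ) : L) * p.2) =
      (((c : L) * p.1 + 1 * σ (((c⁻¹ : Lˣ) : L) * p.2)) +
        ((c : L) * σ c + 1) * σ (((c⁻¹ : Lˣ) : L) * p.2), ((c⁻¹ : Lˣ) : L) * p.2)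
    refine Prod.ext ?_ rfl
    show (c : L) * (p.1 + 1 * σ p.2) = _
    rw [map_mul, Units.val_inv_eq_inv_val, map_inv₀]
    have hσc : σ (c : L) ≠ 0 := by simp
    field_simp
    linear_combination (-σ p.2) * two_L F L
  have hκ0 : (c : L) * σ c + 1 ≠ 0 := fun h => hc (by linear_combination h - two_L F L)
  refine ⟨xk, ?_, ?_, ?_, ?_⟩
  · rw [← heq, commutator_def]
    exact Subgroup.commutator_mem_commutator trivial trivial
  · rw [pow_two]
    refine Subtype.ext (LinearEquiv.ext fun p => Prod.ext ?_ rfl)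
    show p.1 + ((c : L) * σ c + 1) * σ p.2 + ((c : L) * σ c + 1) * σ p.2 = p.1
    linear_combination ((c : L) * σ c + 1) * σ p.2 * two_L F L
  · intro h
    have : (0 : L) + ((c : L) * σ c + 1) * σ 1 = 0 :=
      congrArg (fun g : orth (hypForm F L) => (g.1 (0, 1)).1) h
    rw [zero_add, map_one, mul_one] at this
    exact hκ0 this
  · intro v hv
    have h1 : v.1 + ((c : L) * σ c + 1) * σ v.2 = v.1 := congrArg Prod.fst hv
    have h2 : σ v.2 = 0 := by
      have h3 : ((c : L) * σ c + 1) * σ v.2 = 0 := by linear_combination h1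
      exact (mul_eq_zero.1 h3).resolve_left hκ0
    rw [hypForm_apply, (map_eq_zero σ).1 h2, mul_zero, map_zero]

/-- The form `Tr (e x σ(x))` has polar form `Tr (x σ(y))`. -/
theorem exists_norm_mover (hd : 5 ≤ finrank F L) {r : ℕ} (hr : Odd r) (ζ : Lˣ) (hζ : ζ ^ r = 1)
    (hne : ζ ≠ 1) (hnorm : (ζ : L) * σ ζ = 1) :
    ∃ (Q : QuadraticForm F L) (g : orth Q), Nondeg Q ∧ g ∈ commutator (orth Q) ∧ g ^ r = 1 ∧ g ≠ 1 ∧
      ∀ v, g.1 v = v → v = 0 := by
  obtain ⟨e, he⟩ := exists_splitting σ hσσ hσ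
  let β : L →ₗ[F] L →ₗ[F] F :=
    (Algebra.traceForm F L).compl₁₂ (LinearMap.mulLeft F e) σ.toLinearMap
  let Q : QuadraticForm F L := LinearMap.BilinMap.toQuadraticMap β
  have hQ : ∀ x, Q x = Algebra.trace F L (e * x * σ x) := fun x => rfl
  have hpol : ∀ x y, polar Q x y = Algebra.trace F L (x * σ y) := fun x y => by
    rw [polar, hQ, hQ, hQ, map_add σ, ← map_sub, ← map_sub]
    rw [show e * (x + y) * (σ x + σ y) - e * x * σ x - e * y * σ y =
      e * x * σ y + e * y * σ x by ring, map_add,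
      ← Algebra.trace_eq_of_algEquiv σ (e * y * σ x), ← map_add]
    congr 1
    rw [map_mul, map_mul, hσσ]
    linear_combination (x * σ y) * he
  have hnd : Nondeg Q := fun x hx => (traceForm_nondegenerate F L).1 x fun y => by
    have := hx (σ y)
    rwa [hpol, hσσ, ← Algebra.traceForm_apply] at this
  let mE : Lˣ → L ≃ₗ[F] L := fun c =>
    { toFun := fun x => (c : L) * x
      map_add' := fun x y => mul_add _ _ _
      map_smul' := fun a x => mul_smul_comm a _ _
      invFun := fun x => ((c⁻¹ : Lˣ) : L) * x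
      left_inv := fun x => by simp
      right_inv := fun x => by simp }
  have hg : mE ζ ∈ orth Q := fun v => by
    show Q ((ζ : L) * v) = Q v
    rw [hQ, hQ, map_mul σ]
    congr 1
    linear_combination (e * v * σ v) * hnorm
  have hpow : ∀ (n : ℕ) (v : L), ((mE ζ) ^ n) v = ((ζ ^ n : Lˣ) : L) * v := by
    intro n
    induction n with
    | zero => intro v; simp
    | succ k ih =>
      intro v
      rw [pow_succ', LinearEquiv.mul_apply, ih, pow_succ', Units.val_mul, mul_assoc]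
      rfl
  have hgr : (⟨mE ζ, hg⟩ : orth Q) ^ r = 1 := Subtype.ext (LinearEquiv.ext fun v => by
    show ((mE ζ) ^ r) v = v
    rw [hpow, hζ, Units.val_one, one_mul])
  refine ⟨Q, ⟨mE ζ, hg⟩, hnd, mem_commutator_of_odd hnd hd hr hgr, hgr, ?_, fun v hv => ?_⟩
  · intro h
    have : (ζ : L) * 1 = 1 := congrArg (fun g : orth Q => g.1 1) h
    exact hne (Units.ext (by rwa [mul_one] at this))
  · have hv' : (ζ : L) * v = v := hv
    by_contra h
    exact hne (Units.ext (mul_right_cancel₀ h (hv'.trans (one_mul v).symm)))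

end Frob

section Targets

open FiniteField

variable {d r : ℕ}

omit [CharP F 2] in
theorem exists_frob_pow (p : ℕ) [Fact p.Prime] [CharP F p] {m : ℕ} (hm : 2 ≤ m) [NeZero (2 * m)] :
    ∃ (σ : Extension F p (2 * m) ≃ₐ[F] Extension F p (2 * m)) (c : (Extension F p (2 * m))ˣ),
      (∀ x, σ (σ x) = x) ∧ σ c ≠ c ∧ (c : Extension F p (2 * m)) * σ c ≠ 1 ∧
      ∀ x, σ x = x ^ (Nat.card F ^ m) := by
  have hσ : ∀ x, (Extension.frob F p (2 * m) ^ m) x = x ^ (Nat.card F ^ m) := fun x =>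
    Extension.frob_iterate_apply F p (2 * m) m
  obtain ⟨c, hc⟩ := IsCyclic.exists_generator (α := (Extension F p (2 * m))ˣ)
  have hord : orderOf c = Nat.card F ^ (2 * m) - 1 := by
    rw [orderOf_eq_card_of_forall_mem_zpowers hc, Nat.card_units, natCard_extension]
  have hq : 2 ≤ Nat.card F := Finite.one_lt_card
  have hqm : 4 ≤ Nat.card F ^ m :=
    le_trans (Nat.pow_le_pow_left hq 2) (Nat.pow_le_pow_right (by omega) hm)
  have hsq : Nat.card F ^ (2 * m) = Nat.card F ^ m * Nat.card F ^ m := by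
    rw [two_mul, pow_add]
  have hbig : 4 * Nat.card F ^ m ≤ Nat.card F ^ (2 * m) := by
    rw [hsq]; exact Nat.mul_le_mul_right _ hqm
  have hne : ∀ k, 0 < k → k + 1 < Nat.card F ^ (2 * m) → c ^ k ≠ 1 := fun k hk hk2 =>
    pow_ne_one_of_lt_orderOf hk.ne' (by omega)
  refine ⟨Extension.frob F p (2 * m) ^ m, c, fun x => ?_, ?_, ?_, hσ⟩
  · rw [hσ, hσ, ← pow_mul, ← hsq]
    have := Fintype.ofFinite (Extension F p (2 * m))
    rw [← natCard_extension F p (2 * m), ← Fintype.card_eq_nat_card, FiniteField.pow_card]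
  · rw [hσ, ← Units.val_pow_eq_pow_val]
    intro h
    have h1 := Units.ext h
    refine hne (Nat.card F ^ m - 1) (by omega) (by omega) ?_
    rw [← mul_eq_left (a := c), ← pow_succ', Nat.sub_add_cancel (by omega)]
    exact h1
  · rw [hσ, ← Units.val_pow_eq_pow_val, ← Units.val_mul, Ne, Units.val_eq_one, ← pow_succ']
    exact hne _ (by omega) (by omega)

theorem exists_unit (p n : ℕ) [Fact p.Prime] [CharP F p] [NeZero n] [hr : Fact r.Prime]
    (h : r ∣ Nat.card F ^ n - 1) :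
    ∃ ζ : (Extension F p n)ˣ, ζ ^ r = 1 ∧ ζ ≠ 1 := by
  obtain ⟨ζ, hζ⟩ := exists_prime_orderOf_dvd_card' (G := (Extension F p n)ˣ) r
    (by rwa [Nat.card_units, natCard_extension])
  refine ⟨ζ, hζ ▸ pow_orderOf_eq_one ζ, fun h1 => ?_⟩
  rw [h1, orderOf_one] at hζ
  exact hr.out.ne_one hζ.symm

theorem plus_mover_two (hd : Even d) (hd2 : 4 ≤ d) : Mover (qPlus (F := F) d) 2 := by
  obtain ⟨m, rfl⟩ := hd.two_dvd
  have : NeZero (2 * m) := ⟨by omega⟩
  obtain ⟨σ, c, h1, h2, h3, -⟩ := exists_frob_pow (F := F) 2 (m := m) (by omega)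
  exact (hyp_mover_two σ h1 h2 h3).congr (hypForm_equiv (finrank_extension F 2 (2 * m)))

theorem plus_mover_odd (hd : 4 ≤ d) [hr : Fact r.Prime] (hr2 : r ≠ 2)
    (h : r ∣ Nat.card F ^ d - 1) : Mover (qPlus (F := F) d) r := by
  have : NeZero d := ⟨by omega⟩
  obtain ⟨ζ, hζ, hne⟩ := exists_unit (F := F) (r := r) 2 d h
  exact (hyp_mover_odd (by rw [finrank_extension F 2 d]; omega)
    (hr.out.odd_of_ne_two hr2) ζ hζ hne).congr (hypForm_equiv (finrank_extension F 2 d))

omit [Finite F] in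
theorem card_even [Finite F] : ∃ k, Nat.card F = 2 ^ k := by
  have := Fintype.ofFinite F
  obtain ⟨k, -, hk⟩ := FiniteField.card F 2
  exact ⟨k, by rw [Nat.card_eq_fintype_card, hk]⟩

theorem coprime_card [hr : Fact r.Prime] (hr2 : r ≠ 2) (k : ℕ) : ¬ r ∣ Nat.card F ^ k := by
  intro h
  obtain ⟨j, hj⟩ := card_even (F := F)
  rw [hj, ← pow_mul] at h
  exact hr2 ((Nat.prime_dvd_prime_iff_eq hr.out Nat.prime_two).1 (hr.out.dvd_of_dvd_pow h))

/-- A fixed-point free element of order dividing `q ^ d + 1` makes the form of minus type. -/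
theorem exists_qBin_of_free {V : Type*} [AddCommGroup V] [Module F V] [FiniteDimensional F V]
    {Q : QuadraticForm F V} (hQ : Nondeg Q) (hd : 1 ≤ d) (hdim : finrank F V = 2 * d)
    [hr : Fact r.Prime] (hr2 : r ≠ 2) (h : r ∣ Nat.card F ^ d + 1) (g : orth Q) (hgr : g ^ r = 1)
    (hfix : ∀ v, g.1 v = v → v = 0) :
    ∃ a b : F, (∀ z₁ z₂ : F, z₁ ^ 2 + a * z₁ * z₂ + b * z₂ ^ 2 = 0 → z₁ = 0 ∧ z₂ = 0) ∧
      Q.Equivalent ((qPlus (d - 1)).prod (qBin a b)) := by
  have : Finite V := Module.finite_of_finite F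
  rcases classify Q hQ with ⟨m, hm, he⟩ | ⟨m, c, -, h2, -, -⟩ | ⟨m, a, b, hab, hm, he⟩
  · exfalso
    obtain rfl : m = d := by omega
    have h1 := dvd_levelCard g hgr hfix
    rw [levelCard, card_level_congr he] at h1
    change r ∣ levelCard (qPlus (F := F) m) 1 at h1
    rw [levelCard_qPlus m one_ne_zero] at h1
    rcases hr.out.dvd_mul.1 h1 with h2 | h2
    · have h3 := Nat.dvd_sub h h2
      have hq : 1 ≤ Nat.card F ^ m := Nat.one_le_pow _ _ Nat.card_pos
      rw [show Nat.card F ^ m + 1 - (Nat.card F ^ m - 1) = 2 by omega] at h3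
      exact hr2 ((Nat.prime_dvd_prime_iff_eq hr.out Nat.prime_two).1 h3)
    · exact coprime_card hr2 _ h2
  · exact absurd two_eq_zero h2
  · exact ⟨a, b, hab, (show d - 1 = m by omega) ▸ he⟩

theorem minus_mover_odd (hd : 3 ≤ d) [hr : Fact r.Prime] (hr2 : r ≠ 2)
    (h : r ∣ Nat.card F ^ d + 1) :
    ∃ a b : F, (∀ z₁ z₂ : F, z₁ ^ 2 + a * z₁ * z₂ + b * z₂ ^ 2 = 0 → z₁ = 0 ∧ z₂ = 0) ∧
      Mover ((qPlus (F := F) (d - 1)).prod (qBin a b)) r := by
  have : NeZero (2 * d) := ⟨by omega⟩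
  obtain ⟨σ, c, h1, h2, -, h4⟩ := exists_frob_pow (F := F) 2 (m := d) (by omega)
  have hq : 1 ≤ Nat.card F ^ d := Nat.one_le_pow _ _ Nat.card_pos
  have hdvd : r ∣ Nat.card F ^ (2 * d) - 1 := by
    refine h.trans ⟨Nat.card F ^ d - 1, ?_⟩
    rw [two_mul, pow_add, ← one_mul 1, ← Nat.mul_self_sub_mul_self_eq, one_mul]
  obtain ⟨ζ, hζ, hne⟩ := exists_unit (F := F) (r := r) 2 (2 * d) hdvd
  have hnorm : (ζ : Extension F 2 (2 * d)) * σ ζ = 1 := by
    obtain ⟨t, ht⟩ := h
    rw [h4, ← pow_succ', ← Units.val_pow_eq_pow_val, ht, pow_mul, hζ, one_pow, Units.val_one]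
  obtain ⟨Q, g, hQ, hg, hgr, hgne, hfix⟩ := exists_norm_mover σ h1 h2
    (by rw [finrank_extension F 2 (2 * d)]; omega) (hr.out.odd_of_ne_two hr2) ζ hζ hne hnorm
  obtain ⟨a, b, hab, he⟩ := exists_qBin_of_free hQ (by omega) (finrank_extension F 2 (2 * d)) hr2 h
    g hgr hfix
  exact ⟨a, b, hab, (Mover.congr ⟨g, hg, hgr, hgne, fun v hv => by
    rw [hfix v hv, QuadraticMap.map_zero]⟩ he)⟩

end Targets

end Cfsg.Agent.Lib.Elusive19
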