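import Mathlib
import Cfsg.Prelude.Def_GeometricClasses

/-!
The normaliser in `GL₃` of an extraspecial group of order 27 and exponent 3: coordinates, the
elements of order 2 and 3 it contains, and the absence of larger prime orders.
-/

set_option autoImplicit false

namespace Cfsg.Agent.Lib.Elusive19.Heisenberg3

open scoped Matrix

variable {F : Type*} [Field F]

local notation "M3" => Matrix (Fin 3) (Fin 3) F
local notation "G3" => GL (Fin 3) F

/-- The diagonal generator. -/
def dA (ω : F) : M3 := Matrix.diagonal ![1, ω, ω ^ 2]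

/-- The shift. -/
def dB : M3 := !![0, 0, 1; 1, 0, 0; 0, 1, 0]

/-- Coordinates in which `R` is the standard Heisenberg group. -/
structure Coords (R : Subgroup G3) where
  P : G3
  ω : F
  A : G3
  B : G3
  hω3 : ω ^ 3 = 1
  hω : ω ≠ 1
  hA : A ∈ R
  hB : B ∈ R
  cA : ((P⁻¹ * A * P : G3) : M3) = dA ω
  cB : ((P⁻¹ * B * P : G3) : M3) = dB
  gen : R ≤ Subgroup.closure {A, B}

theorem vec_eq (u : Fin 3 → F) : u = ![u 0, u 1, u 2] := by
  funext i; fin_cases i <;> rfl

theorem prim_sum {ω : F} (hω3 : ω ^ 3 = 1) (hω : ω ≠ 1) : ω ^ 2 + ω + 1 = 0 := by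
  have h : (ω - 1) * (ω ^ 2 + ω + 1) = 0 := by linear_combination hω3
  exact (mul_eq_zero.1 h).resolve_left (sub_ne_zero.2 hω)

/-- Elements of exponent three: every vector is a combination of eigenvectors. -/
theorem span_eig3 (h3 : (3 : F) ≠ 0) {ω : F} (hω3 : ω ^ 3 = 1) (hω : ω ≠ 1)
    (f : (Fin 3 → F) →ₗ[F] (Fin 3 → F)) (hf : ∀ v, f (f (f v)) = v) :
    ⊤ ≤ Submodule.span F {v | ∃ k : ℕ, f v = ω ^ k • v} := by
  intro v _
  have hs := prim_sum hω3 hω
  set e0 := v + f v + f (f v)
  set e1 := v + ω ^ 2 • f v + ω • f (f v)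
  set e2 := v + ω • f v + ω ^ 2 • f (f v)
  have h0 : f e0 = ω ^ 0 • e0 := by
    simp only [e0, map_add, hf, pow_zero, one_smul]; abel
  have h1 : f e1 = ω ^ 1 • e1 := by
    simp only [e1, map_add, map_smul, hf, pow_one, smul_add, smul_smul]
    rw [show ω * ω ^ 2 = 1 by linear_combination hω3, one_smul,
      show ω * ω = ω ^ 2 by ring]
    abel
  have h2 : f e2 = ω ^ 2 • e2 := by
    simp only [e2, map_add, map_smul, hf, smul_add, smul_smul]
    rw [show ω ^ 2 * ω = 1 by linear_combination hω3, one_smul,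
      show ω ^ 2 * ω ^ 2 = ω by linear_combination ω * hω3]
    abel
  have hv : v = (3 : F)⁻¹ • (e0 + e1 + e2) := by
    have : e0 + e1 + e2 = (3 : F) • v := by
      funext i
      simp only [e0, e1, e2, Pi.add_apply, Pi.smul_apply, smul_eq_mul]
      linear_combination (f v i + f (f v) i) * hs
    rw [this, smul_smul, inv_mul_cancel₀ h3, one_smul]
  rw [hv]
  exact Submodule.smul_mem _ _ (Submodule.add_mem _ (Submodule.add_mem _
    (Submodule.subset_span ⟨0, h0⟩) (Submodule.subset_span ⟨1, h1⟩))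
    (Submodule.subset_span ⟨2, h2⟩))

/-- Involutions: every vector is a combination of eigenvectors. -/
theorem span_eig2 (h2 : (2 : F) ≠ 0) (f : (Fin 3 → F) →ₗ[F] (Fin 3 → F))
    (hf : ∀ v, f (f v) = v) :
    ⊤ ≤ Submodule.span F {v | ∃ k : ℕ, f v = (-1 : F) ^ k • v} := by
  intro v _
  have h0 : f (v + f v) = (-1 : F) ^ 0 • (v + f v) := by
    rw [map_add, hf, pow_zero, one_smul, add_comm]
  have h1 : f (v - f v) = (-1 : F) ^ 1 • (v - f v) := by
    rw [map_sub, hf, pow_one, neg_one_smul, neg_sub]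
  have hv : v = (2 : F)⁻¹ • ((v + f v) + (v - f v)) := by
    rw [show (v + f v) + (v - f v) = (2 : F) • v by rw [two_smul]; abel, smul_smul,
      inv_mul_cancel₀ h2, one_smul]
  rw [hv]
  exact Submodule.smul_mem _ _ (Submodule.add_mem _ (Submodule.subset_span ⟨0, h0⟩)
    (Submodule.subset_span ⟨1, h1⟩))

/-- A spanning set of eigenvectors gives a diagonalising matrix. -/
theorem exists_diag (X : M3) (ζ : F)
    (h : ⊤ ≤ Submodule.span F {v : Fin 3 → F | ∃ k : ℕ, Matrix.toLin' X v = ζ ^ k • v}) :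
    ∃ (V : G3) (k : Fin 3 → ℕ), X * (V : M3) = (V : M3) * Matrix.diagonal fun i => ζ ^ k i := by
  let b := Module.Basis.ofSpan h
  have hmem : ∀ j, ∃ k : ℕ, Matrix.toLin' X (b j) = ζ ^ k • b j := fun j => by
    have := Module.Basis.ofSpan_subset h ⟨j, rfl⟩
    exact this
  have : Finite _ := Module.Finite.finite_basis b
  have := Fintype.ofFinite ((linearIndepOn_empty F (id : (Fin 3 → F) → Fin 3 → F)).extend
      (Set.empty_subset {v : Fin 3 → F | ∃ k : ℕ, Matrix.toLin' X v = ζ ^ k • v}))
  have hc := Module.finrank_eq_card_basis b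
  rw [Module.finrank_fintype_fun_eq_card, Fintype.card_fin] at hc
  let b' := b.reindex ((Fintype.equivFin _).trans (finCongr hc.symm))
  choose k hk using fun i => hmem ((((Fintype.equivFin _).trans (finCongr hc.symm))).symm i)
  let V : M3 := (Pi.basisFun F (Fin 3)).toMatrix b'
  have hV : IsUnit V.det := by
    rw [← Module.Basis.det_apply]
    exact (Pi.basisFun F (Fin 3)).isUnit_det b'
  refine ⟨Matrix.nonsingInvUnit V hV, k, ?_⟩
  ext i j
  show (X * V) i j = (V * Matrix.diagonal fun i => ζ ^ k i) i j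
  rw [Matrix.mul_diagonal]
  have h1 : V = Matrix.of fun a c => b' c a := by
    ext a c; simp [V, Module.Basis.toMatrix_apply]
  rw [h1, Matrix.mul_apply]
  have h2 := congrFun (hk j) i
  rw [Matrix.toLin'_apply, Pi.smul_apply, smul_eq_mul, ← Module.Basis.reindex_apply] at h2
  rw [Matrix.of_apply, mul_comm]
  exact h2

theorem exists_sl_conj {x y V W : G3} {u : Fin 3 → F}
    (hx : (x : M3) * V = (V : M3) * Matrix.diagonal u) (hy : (y : M3) * W = (W : M3) * Matrix.diagonal u) :
    ∃ g ∈ Cfsg.Geo.specialLinear (Fin 3) F, g⁻¹ * x * g = y := by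
  set d : F := (W : M3).det / (V : M3).det with hd
  have hV0 : (V : M3).det ≠ 0 := (Matrix.isUnits_det_units V).ne_zero
  have hW0 : (W : M3).det ≠ 0 := (Matrix.isUnits_det_units W).ne_zero
  let T : G3 := Matrix.GeneralLinearGroup.mkOfDetNeZero (Matrix.diagonal ![d, 1, 1])
    (by simp [Matrix.det_diagonal, Fin.prod_univ_three, hd, hV0, hW0])
  have hT : (T : M3) = Matrix.diagonal ![d, 1, 1] := rfl
  refine ⟨V * T * W⁻¹, ?_, ?_⟩
  · show Matrix.GeneralLinearGroup.det (V * T * W⁻¹) = 1
    rw [map_mul, map_mul, map_inv, mul_inv_eq_one]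
    apply Units.ext
    rw [Units.val_mul, Matrix.GeneralLinearGroup.val_det_apply,
      Matrix.GeneralLinearGroup.val_det_apply, Matrix.GeneralLinearGroup.val_det_apply, hT,
      Matrix.det_diagonal, Fin.prod_univ_three]
    simp [hd, mul_div_cancel₀ _ hV0]
  · have hTu : Matrix.diagonal u * (T : M3) = (T : M3) * Matrix.diagonal u := by
      rw [hT, Matrix.diagonal_mul_diagonal, Matrix.diagonal_mul_diagonal]
      simp only [mul_comm]
    have e1 : ((x * (V * T) : G3) : M3) = ((V * T : G3) : M3) * Matrix.diagonal u := by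
      rw [Units.val_mul, Units.val_mul, ← mul_assoc, hx, mul_assoc, hTu, mul_assoc]
    have e2 : x * (V * T) = V * T * (W⁻¹ * y * W) := by
      refine Units.ext (e1.trans ?_)
      simp only [Units.val_mul]
      rw [mul_assoc ((W⁻¹ : G3) : M3), hy, ← mul_assoc ((W⁻¹ : G3) : M3), Units.inv_mul, one_mul]
    calc (V * T * W⁻¹)⁻¹ * x * (V * T * W⁻¹) = W * (V * T)⁻¹ * (x * (V * T)) * W⁻¹ := by group
      _ = y := by rw [e2]; group

theorem exists_coords (h3 : (3 : F) ≠ 0) {ω : F} (hω3 : ω ^ 3 = 1) (hω : ω ≠ 1) (R : Subgroup G3) (hR : Nat.card R = 27)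
    (hRe : Monoid.exponent R = 3) (hRna : ¬ IsMulCommutative R) : Nonempty (Coords R) := by
  have : Finite R := Nat.finite_of_card_ne_zero (by omega)
  obtain ⟨a, b, hab⟩ : ∃ a b : R, a * b ≠ b * a := by
    by_contra! h
    exact hRna ⟨⟨h⟩⟩
  have hcube : ∀ g : R, g ^ 3 = 1 := fun g => by
    have := Monoid.pow_exponent_eq_one g
    rwa [hRe] at this
  have : Fact (Nat.Prime 3) := ⟨Nat.prime_three⟩
  have hpg : IsPGroup 3 R := IsPGroup.of_card (n := 3) (by rw [hR]; norm_num)
  have : Nontrivial R := Finite.one_lt_card_iff_nontrivial.1 (by omega)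
  have hZ : Nat.card (Subgroup.center R) = 3 := by
    obtain ⟨k, hk, hkc⟩ := IsPGroup.card_center_eq_prime_pow (p := 3) (n := 3) (G := R)
      (by rw [hR]; norm_num) (by norm_num)
    have hle : k ≤ 3 := by
      have := (Subgroup.card_subgroup_dvd_card (Subgroup.center R))
      rw [hkc, hR, show 27 = 3 ^ 3 by norm_num] at this
      exact (Nat.pow_dvd_pow_iff_le_right (by norm_num)).1 this
    rcases (show k = 1 ∨ k = 2 ∨ k = 3 by omega) with rfl | rfl | rfl
    · simpa using hkc
    · exfalso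
      apply hab
      have hidx := Subgroup.index_mul_card (Subgroup.center R)
      rw [hkc, hR] at hidx
      norm_num at hidx
      have hq : Nat.card (R ⧸ Subgroup.center R) = 3 := by
        rw [← Subgroup.index_eq_card]; omega
      have : IsCyclic (R ⧸ Subgroup.center R) := isCyclic_of_prime_card (p := 3) hq
      exact (commutative_of_cyclic_center_quotient (QuotientGroup.mk' (Subgroup.center R))
        (by rw [QuotientGroup.ker_mk']) a b)
    · exfalso
      apply hab
      have htop : Subgroup.center R = ⊤ :=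
        Subgroup.eq_top_of_card_eq _ (by rw [hkc, hR]; norm_num)
      exact (Subgroup.mem_center_iff.1 (htop ▸ Subgroup.mem_top b) a)
  have hcl : Subgroup.closure ({a, b} : Set R) = ⊤ := by
    by_contra hne
    set K := Subgroup.closure ({a, b} : Set R)
    have hdvd := Subgroup.card_subgroup_dvd_card K
    rw [hR, show 27 = 3 ^ 3 by norm_num] at hdvd
    obtain ⟨k, hk, hkc⟩ := (Nat.dvd_prime_pow Nat.prime_three).1 hdvd
    have hk3 : k ≠ 3 := fun h => hne (Subgroup.eq_top_of_card_eq _ (by rw [hkc, h, hR]; norm_num))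
    have hcomm : ∀ s t : K, s * t = t * s := by
      rcases (show k = 0 ∨ k = 1 ∨ k = 2 by omega) with rfl | rfl | rfl
      · have : Subsingleton K := (Nat.card_eq_one_iff_unique.1 (by simpa using hkc)).1
        exact fun s t => Subsingleton.elim _ _
      · have : IsCyclic K := isCyclic_of_prime_card (p := 3) (by simpa using hkc)
        exact (IsCyclic.isMulCommutative).is_comm.comm
      · exact (IsPGroup.commutative_of_card_eq_prime_sq (p := 3) hkc)
    exact hab (congrArg Subtype.val (hcomm ⟨a, Subgroup.subset_closure (by simp)⟩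
      ⟨b, Subgroup.subset_closure (by simp)⟩))
  set c : R := a * b * a⁻¹ * b⁻¹ with hc
  have hc1 : c ≠ 1 := fun h => hab (by
    rw [hc, mul_inv_eq_one, mul_inv_eq_iff_eq_mul] at h; exact h)
  have hcc : c ∈ Subgroup.center R := by
    have hq : IsPGroup 3 (R ⧸ Subgroup.center R) := hpg.to_quotient _
    have hcard : Nat.card (R ⧸ Subgroup.center R) = 3 ^ 2 := by
      have := Subgroup.index_mul_card (Subgroup.center R)
      rw [hZ, hR] at this
      rw [← Subgroup.index_eq_card]; omega
    have hcomm := IsPGroup.commutative_of_card_eq_prime_sq (p := 3) hcard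
    rw [← QuotientGroup.eq_one_iff]
    show QuotientGroup.mk' (Subgroup.center R) c = 1
    rw [hc, map_mul, map_mul, map_mul, map_inv, map_inv, hcomm (QuotientGroup.mk' _ a)]
    group
  -- the central commutator is a scalar
  set fa := Matrix.toLin' ((a : G3) : M3)
  set fb := Matrix.toLin' ((b : G3) : M3)
  set fc := Matrix.toLin' ((c : G3) : M3)
  have hprod : ∀ s t : R, Matrix.toLin' (((s * t : R) : G3) : M3) =
      (Matrix.toLin' ((s : G3) : M3)).comp (Matrix.toLin' ((t : G3) : M3)) := fun s t => by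
    rw [Subgroup.coe_mul, Units.val_mul, Matrix.toLin'_mul]
  have hcomm : ∀ (g : R) v, fc (Matrix.toLin' ((g : G3) : M3) v) =
      Matrix.toLin' ((g : G3) : M3) (fc v) := fun g v => by
    rw [← LinearMap.comp_apply, ← hprod, ← Subgroup.mem_center_iff.1 hcc g, hprod]
    rfl
  have hfc3 : ∀ v, fc (fc (fc v)) = v := fun v => by
    rw [← LinearMap.comp_apply, ← LinearMap.comp_apply, ← hprod, ← hprod, ← pow_two, ← pow_succ,
      hcube]
    simp
  have hba : a * b = c * (b * a) := by rw [hc]; group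
  obtain ⟨lam, hlam1, hlamv⟩ : ∃ lam : F, lam ≠ 1 ∧ ∃ v, v ≠ 0 ∧ fc v = lam • v := by
    by_contra! hne
    apply hc1
    have hsp := span_eig3 h3 hω3 hω fc hfc3
    have hle : Submodule.span F {v | ∃ k : ℕ, fc v = ω ^ k • v} ≤
        LinearMap.ker (fc - LinearMap.id) := by
      refine Submodule.span_le.2 ?_
      rintro u ⟨k, hk⟩
      rw [SetLike.mem_coe, LinearMap.mem_ker, LinearMap.sub_apply, LinearMap.id_apply]
      by_cases hu : u = 0
      · rw [hu, map_zero, sub_zero]
      · have : ω ^ k = 1 := by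
          by_contra hk1
          exact hne (ω ^ k) hk1 u hu hk
        rw [hk, this, one_smul, sub_self]
    apply Subtype.ext
    apply Units.ext
    apply Matrix.toLin'.injective
    rw [Subgroup.coe_one, Units.val_one, Matrix.toLin'_one]
    exact LinearMap.ext fun v => sub_eq_zero.1 (LinearMap.mem_ker.1 (hle (hsp Submodule.mem_top)))
  obtain ⟨v₀, hv₀, hcv⟩ := hlamv
  have hlam3 : lam ^ 3 = 1 := by
    have := hfc3 v₀
    rw [hcv, map_smul, hcv, map_smul, map_smul, hcv, smul_smul, smul_smul] at this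
    refine smul_left_injective F hv₀ ?_
    show lam ^ 3 • v₀ = (1 : F) • v₀
    rw [one_smul, ← this]; congr 1; ring
  -- eigenvector of `a` inside the eigenspace of the commutator
  have hfa3 : ∀ v, fa (fa (fa v)) = v := fun v => by
    rw [← LinearMap.comp_apply, ← LinearMap.comp_apply, ← hprod, ← hprod, ← pow_two, ← pow_succ,
      hcube]
    simp
  have hfb3 : ∀ v, fb (fb (fb v)) = v := fun v => by
    rw [← LinearMap.comp_apply, ← LinearMap.comp_apply, ← hprod, ← hprod, ← pow_two, ← pow_succ,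
      hcube]
    simp
  set W := Module.End.eigenspace fc lam with hW
  have habv : ∀ v, fc v = lam • v → fa (fb v) = lam • fb (fa v) := fun v hv => by
    have h1 : fa (fb v) = fc (fb (fa v)) := by
      rw [← LinearMap.comp_apply, ← hprod a b, hba, hprod c (b * a), hprod b a]
      rfl
    rw [h1, hcomm b, hcomm a, hv, map_smul, map_smul]
  obtain ⟨u, hu0, hcu, k, hk⟩ : ∃ u, u ≠ 0 ∧ fc u = lam • u ∧ ∃ k : ℕ, fa u = lam ^ k • u := by
    set e0 := v₀ + fa v₀ + fa (fa v₀)
    set e1 := v₀ + lam ^ 2 • fa v₀ + lam • fa (fa v₀)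
    set e2 := v₀ + lam • fa v₀ + lam ^ 2 • fa (fa v₀)
    have hin : ∀ v, fc v = lam • v → fc (fa v) = lam • fa v := fun v hv => by
      rw [hcomm a, hv, map_smul]
    have hs := prim_sum hlam3 hlam1
    have hsum : e0 + e1 + e2 = (3 : F) • v₀ := by
      funext i
      simp only [e0, e1, e2, Pi.add_apply, Pi.smul_apply, smul_eq_mul]
      linear_combination (fa v₀ i + fa (fa v₀) i) * hs
    by_cases h0 : e0 ≠ 0
    · refine ⟨e0, h0, ?_, 0, ?_⟩
      · simp only [e0, map_add, hcv, hin v₀ hcv, hin _ (hin v₀ hcv), smul_add]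
      · simp only [e0, map_add, hfa3, pow_zero, one_smul]; abel
    by_cases h1 : e1 ≠ 0
    · refine ⟨e1, h1, ?_, 1, ?_⟩
      · simp only [e1, map_add, map_smul, hcv, hin v₀ hcv, hin _ (hin v₀ hcv), smul_add,
          smul_comm lam (lam ^ 2)]
      · simp only [e1, map_add, map_smul, hfa3, pow_one, smul_add, smul_smul]
        rw [show lam * lam ^ 2 = 1 by linear_combination hlam3, one_smul,
          show lam * lam = lam ^ 2 by ring]
        abel
    · refine ⟨e2, fun h2 => ?_, ?_, 2, ?_⟩
      · rw [not_not.1 h0, not_not.1 h1, h2, add_zero, add_zero] at hsum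
        exact hv₀ ((smul_eq_zero.1 hsum.symm).resolve_left h3)
      · simp only [e2, map_add, map_smul, hcv, hin v₀ hcv, hin _ (hin v₀ hcv), smul_add,
          smul_comm lam (lam ^ 2)]
      · simp only [e2, map_add, map_smul, hfa3, smul_add, smul_smul]
        rw [show lam ^ 2 * lam = 1 by linear_combination hlam3, one_smul,
          show lam ^ 2 * lam ^ 2 = lam by linear_combination lam * hlam3]
        abel
  -- rotate to the eigenvalue one
  have hstep : ∀ (v : Fin 3 → F) (j : ℕ), fc v = lam • v → fa v = lam ^ j • v →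
      fc (fb v) = lam • fb v ∧ fa (fb v) = lam ^ (j + 1) • fb v := fun v j h1 h2 => by
    refine ⟨by rw [hcomm b, h1, map_smul], ?_⟩
    rw [habv v h1, h2, map_smul, smul_smul, pow_succ']
  have hbinj : ∀ v, v ≠ 0 → fb v ≠ 0 := fun v hv h => hv (by
    rw [← hfb3 v, h, map_zero, map_zero])
  obtain ⟨s, hs0, hcs, has⟩ : ∃ s, s ≠ 0 ∧ fc s = lam • s ∧ fa s = s := by
    have h1 := hstep u k hcu hk
    have h2 := hstep _ _ h1.1 h1.2
    have hmod : ∀ j : ℕ, j % 3 = 0 → lam ^ j = 1 := fun j hj => by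
      rw [← Nat.div_add_mod j 3, hj, add_zero, pow_mul, hlam3, one_pow]
    rcases (show k % 3 = 0 ∨ (k + 1) % 3 = 0 ∨ (k + 1 + 1) % 3 = 0 by omega) with h | h | h
    · exact ⟨u, hu0, hcu, by rw [hk, hmod k h, one_smul]⟩
    · exact ⟨fb u, hbinj _ hu0, h1.1, by rw [h1.2, hmod _ h, one_smul]⟩
    · exact ⟨fb (fb u), hbinj _ (hbinj _ hu0), h2.1, by rw [h2.2, hmod _ h, one_smul]⟩
  have e1 := hstep s 0 hcs (by rw [has, pow_zero, one_smul])
  have e2 := hstep _ _ e1.1 e1.2
  let Pm : M3 := Matrix.of fun i j => ![s, fb s, fb (fb s)] j i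
  have hPcol : ∀ j, Pm *ᵥ Pi.single j 1 = ![s, fb s, fb (fb s)] j := fun j => by
    funext i; simp [Pm]
  have hPinj : Pm.det ≠ 0 := by
    intro hdet
    obtain ⟨w, hw0, hw⟩ := Matrix.exists_mulVec_eq_zero_iff.2 hdet
    have hexp : w 0 • s + w 1 • fb s + w 2 • fb (fb s) = 0 := by
      rw [← hw]; funext i
      simp [Pm, Matrix.mulVec, dotProduct, Fin.sum_univ_three]; ring
    have ha1 := congrArg fa hexp
    have ha2 := congrArg fa ha1
    simp only [map_add, map_smul, has, e1.2, e2.2, map_zero, smul_smul, zero_add, pow_one,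
      mul_assoc] at ha1 ha2
    have hs := prim_sum hlam3 hlam1
    have hz : ∀ j, w j = 0 := by
      have p0 : (3 * w 0) • s = 0 := by
        funext i
        have g0 := congrFun hexp i
        have g1 := congrFun ha1 i
        have g2 := congrFun ha2 i
        simp only [Pi.add_apply, Pi.smul_apply, smul_eq_mul, Pi.zero_apply] at g0 g1 g2 ⊢
        linear_combination g0 + g1 + g2 -
          ((w 1 * fb s i) + (w 2 * fb (fb s) i) * (lam ^ 2 - lam + 1)) * hs
      have p1 : (3 * w 1) • fb s = 0 := by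
        funext i
        have g0 := congrFun hexp i
        have g1 := congrFun ha1 i
        have g2 := congrFun ha2 i
        simp only [Pi.add_apply, Pi.smul_apply, smul_eq_mul, Pi.zero_apply] at g0 g1 g2 ⊢
        linear_combination g0 + lam ^ 2 * g1 + lam * g2 -
          ((w 0 * s i) + (w 2 * fb (fb s) i)) * hs -
          (2 * (w 1 * fb s i) + (w 2 * fb (fb s) i) * (2 * lam ^ 2 + lam)) * hlam3 +
          (w 2 * fb (fb s) i) * (lam ^ 2) * hlam3
      have q0 := (smul_eq_zero.1 p0).resolve_right hs0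
      have q1 := (smul_eq_zero.1 p1).resolve_right (hbinj _ hs0)
      have w0 : w 0 = 0 := (mul_eq_zero.1 q0).resolve_left h3
      have w1 : w 1 = 0 := (mul_eq_zero.1 q1).resolve_left h3
      rw [w0, w1, zero_smul, zero_smul, zero_add, zero_add] at hexp
      have w2 : w 2 = 0 := (smul_eq_zero.1 hexp).resolve_right (hbinj _ (hbinj _ hs0))
      intro j; fin_cases j
      · exact w0
      · exact w1
      · exact w2
    exact hw0 (funext hz)
  let P : G3 := Matrix.GeneralLinearGroup.mkOfDetNeZero Pm hPinj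
  have hPa : ((a : G3) : M3) * Pm = Pm * dA lam := by
    refine Matrix.ext_of_mulVec_single fun j => ?_
    rw [← Matrix.mulVec_mulVec, hPcol, ← Matrix.mulVec_mulVec, dA, Matrix.diagonal_mulVec_single,
      mul_one, show (Pi.single j (![1, lam, lam ^ 2] j) : Fin 3 → F) =
        ![1, lam, lam ^ 2] j • Pi.single j 1 by rw [← Pi.single_smul', smul_eq_mul, mul_one],
      Matrix.mulVec_smul, hPcol]
    show fa _ = _
    fin_cases j
    · simp [has]
    · simpa using e1.2
    · simpa using e2.2
  have hPb : ((b : G3) : M3) * Pm = Pm * dB := by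
    refine Matrix.ext_of_mulVec_single fun j => ?_
    rw [← Matrix.mulVec_mulVec, hPcol, ← Matrix.mulVec_mulVec]
    show fb _ = _
    rw [show (dB : M3) *ᵥ Pi.single j 1 = Pi.single (![1, 2, 0] j) 1 by
      funext i; fin_cases i <;> fin_cases j <;> simp [dB], hPcol]
    fin_cases j
    · rfl
    · rfl
    · exact hfb3 s
  refine ⟨⟨P, lam, (a : G3), (b : G3), hlam3, hlam1, a.2, b.2, ?_, ?_, ?_⟩⟩
  · rw [Units.val_mul, Units.val_mul, mul_assoc]
    show ((P⁻¹ : G3) : M3) * (((a : G3) : M3) * Pm) = _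
    rw [hPa, ← mul_assoc, show Pm = (P : M3) from rfl, Units.inv_mul, one_mul]
  · rw [Units.val_mul, Units.val_mul, mul_assoc]
    show ((P⁻¹ : G3) : M3) * (((b : G3) : M3) * Pm) = _
    rw [hPb, ← mul_assoc, show Pm = (P : M3) from rfl, Units.inv_mul, one_mul]
  · intro g hg
    have : (⟨g, hg⟩ : R) ∈ Subgroup.closure ({a, b} : Set R) := by rw [hcl]; trivial
    have := Subgroup.mem_map_of_mem R.subtype this
    rw [MonoidHom.map_closure, Set.image_pair] at this
    exact this

end Cfsg.Agent.Lib.Elusive19.Heisenberg3
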