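import Cfsg.Agent.Lib.Elusive19.Heisenberg3

/-!
Members of the normaliser of the standard group of order 27, and elements of large prime order.
-/

set_option autoImplicit false

namespace Cfsg.Agent.Lib.Elusive19.Heisenberg3

open scoped Matrix

variable {F : Type*} [Field F]

local notation "M3" => Matrix (Fin 3) (Fin 3) F
local notation "G3" => GL (Fin 3) F

variable {R : Subgroup (GL (Fin 3) F)} (C : Coords R)

namespace Coords

include C

/-- `R` in coordinates. -/
def R0 : Subgroup G3 := R.comap (MulAut.conj C.P).toMonoidHom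

/-- The first generator in coordinates. -/
def A0 : G3 := C.P⁻¹ * C.A * C.P

/-- The second generator in coordinates. -/
def B0 : G3 := C.P⁻¹ * C.B * C.P

theorem conjP_A0 : C.P * C.A0 * C.P⁻¹ = C.A := by rw [A0]; group

theorem conjP_B0 : C.P * C.B0 * C.P⁻¹ = C.B := by rw [B0]; group

theorem A0_mem : C.A0 ∈ C.R0 := by
  show C.P * C.A0 * C.P⁻¹ ∈ R
  rw [C.conjP_A0]; exact C.hA

theorem B0_mem : C.B0 ∈ C.R0 := by
  show C.P * C.B0 * C.P⁻¹ ∈ R
  rw [C.conjP_B0]; exact C.hB

theorem omega_ne_zero : C.ω ≠ 0 := fun h => by simpa [h] using C.hω3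

omit C in
/-- A scalar matrix. -/
noncomputable def scalarG (t : F) (ht : t ≠ 0) : G3 :=
  Matrix.GeneralLinearGroup.mkOfDetNeZero (t • (1 : M3)) (by simp [Matrix.det_smul, ht])

omit C in
theorem scalarG_val (t : F) (ht : t ≠ 0) : ((scalarG t ht : G3) : M3) = t • (1 : M3) := rfl

omit C in
theorem dA_dB (ω : F) (h : ω ^ 3 = 1) : dA ω * dB = (ω • (1 : M3)) * (dB * dA ω) := by
  rw [smul_mul_assoc, one_mul]
  ext i j
  fin_cases i <;> fin_cases j <;>
    simp [dA, dB, Matrix.mul_diagonal, Matrix.diagonal_mul, -Matrix.cons_mul]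
  all_goals first | linear_combination h | linear_combination -h | ring

theorem scalar_mem : scalarG C.ω C.omega_ne_zero ∈ C.R0 := by
  have h : C.A0 * C.B0 * C.A0⁻¹ * C.B0⁻¹ = scalarG C.ω C.omega_ne_zero := by
    rw [mul_inv_eq_iff_eq_mul, mul_inv_eq_iff_eq_mul, mul_assoc _ C.B0]
    apply Units.ext
    rw [Units.val_mul, Units.val_mul, Units.val_mul, scalarG_val]
    show ((C.P⁻¹ * C.A * C.P : G3) : M3) * ((C.P⁻¹ * C.B * C.P : G3) : M3) =
      _ * (((C.P⁻¹ * C.B * C.P : G3) : M3) * ((C.P⁻¹ * C.A * C.P : G3) : M3))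
    rw [C.cA, C.cB]
    exact dA_dB _ C.hω3
  rw [← h]
  exact mul_mem (mul_mem (mul_mem C.A0_mem C.B0_mem) (inv_mem C.A0_mem)) (inv_mem C.B0_mem)

variable [Finite F]

theorem conj_mem_normalizer {Y : G3} (hA : Y * C.A0 * Y⁻¹ ∈ C.R0) (hB : Y * C.B0 * Y⁻¹ ∈ C.R0) :
    C.P * Y * C.P⁻¹ ∈ Cfsg.Geo.subgroupNormalizer R := by
  have hmap : ∀ n ∈ R, (C.P * Y * C.P⁻¹) * n * (C.P * Y * C.P⁻¹)⁻¹ ∈ R := by
    intro n hn
    have hle : Subgroup.closure {C.A, C.B} ≤ R.comap (MulAut.conj (C.P * Y * C.P⁻¹)).toMonoidHom := by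
      rw [Subgroup.closure_le]
      intro z hz
      simp only [Set.mem_insert_iff, Set.mem_singleton_iff] at hz
      show (C.P * Y * C.P⁻¹) * z * (C.P * Y * C.P⁻¹)⁻¹ ∈ R
      rcases hz with rfl | rfl
      · rw [show (C.P * Y * C.P⁻¹) * C.A * (C.P * Y * C.P⁻¹)⁻¹ =
          C.P * (Y * C.A0 * Y⁻¹) * C.P⁻¹ by rw [A0]; group]
        exact hA
      · rw [show (C.P * Y * C.P⁻¹) * C.B * (C.P * Y * C.P⁻¹)⁻¹ =
          C.P * (Y * C.B0 * Y⁻¹) * C.P⁻¹ by rw [B0]; group]
        exact hB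
    exact hle (C.gen hn)
  set k := C.P * Y * C.P⁻¹
  have he : R.map (MulAut.conj k).toMonoidHom = R := by
    refine Subgroup.eq_of_le_of_card_ge ?_ ?_
    · rintro _ ⟨n, hn, rfl⟩
      exact hmap n hn
    · exact (Subgroup.card_map_of_injective (MulAut.conj k).injective).ge
  rw [Cfsg.Geo.subgroupNormalizer, Subgroup.mem_normalizer_iff]
  intro n
  refine ⟨hmap n, fun h => ?_⟩
  rw [← he] at h
  obtain ⟨m, hm, hm'⟩ := h
  exact (MulAut.conj k).injective hm' ▸ hm

/-- A scalar times a diagonal matrix of cube roots of unity normalises `R`. -/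
theorem diag_mem {t : F} (ht : t ≠ 0) (k : Fin 3 → ℕ) :
    ∃ y ∈ Cfsg.Geo.subgroupNormalizer R,
      (y : M3) * (C.P : M3) = (C.P : M3) * Matrix.diagonal fun i => t * C.ω ^ k i := by
  let u : Fin 3 → F := fun i => t * C.ω ^ k i
  have hu : ∀ i, u i ≠ 0 := fun i => mul_ne_zero ht (pow_ne_zero _ C.omega_ne_zero)
  let Y : G3 := Matrix.GeneralLinearGroup.mkOfDetNeZero (Matrix.diagonal u)
    (by rw [Matrix.det_diagonal]; exact Finset.prod_ne_zero_iff.2 fun i _ => hu i)
  have hY : (Y : M3) = Matrix.diagonal u := rfl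
  refine ⟨C.P * Y * C.P⁻¹, C.conj_mem_normalizer ?_ ?_, ?_⟩
  · have : Y * C.A0 * Y⁻¹ = C.A0 := by
      rw [mul_inv_eq_iff_eq_mul]
      apply Units.ext
      rw [Units.val_mul, Units.val_mul, hY]
      show _ * ((C.P⁻¹ * C.A * C.P : G3) : M3) = ((C.P⁻¹ * C.A * C.P : G3) : M3) * _
      rw [C.cA, dA, Matrix.diagonal_mul_diagonal, Matrix.diagonal_mul_diagonal]
      simp only [mul_comm]
    rw [this]; exact C.A0_mem
  · set a := k 0 + 2 * k 2
    set b := k 0 + k 1 + k 2
    have : Y * C.B0 * Y⁻¹ = scalarG C.ω C.omega_ne_zero ^ a * C.A0 ^ b * C.B0 := by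
      rw [mul_inv_eq_iff_eq_mul]
      apply Units.ext
      simp only [Units.val_mul, Units.val_pow_eq_pow_val, hY, scalarG_val]
      show _ * ((C.P⁻¹ * C.B * C.P : G3) : M3) =
        _ * ((C.P⁻¹ * C.A * C.P : G3) : M3) ^ b * ((C.P⁻¹ * C.B * C.P : G3) : M3) * _
      rw [C.cA, C.cB, dA, Matrix.diagonal_pow, Matrix.smul_one_eq_diagonal, Matrix.diagonal_pow,
        Matrix.diagonal_mul_diagonal]
      have h3 : ∀ j m : ℕ, C.ω ^ (3 * j + m) = C.ω ^ m := fun j m => by
        rw [pow_add, pow_mul, C.hω3, one_pow, one_mul]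
      ext i j
      fin_cases i <;> fin_cases j <;>
        simp [dB, Matrix.mul_diagonal, Matrix.diagonal_mul, u, a, b, -Matrix.cons_mul]
      · rw [← mul_left_comm t, ← pow_add,
          show k 0 + 2 * k 2 + k 2 = 3 * k 2 + k 0 by ring, h3]
      · rw [← mul_left_comm t, ← pow_add, ← pow_add,
          show k 0 + 2 * k 2 + (k 0 + k 1 + k 2) + k 0 = 3 * (k 0 + k 2) + k 1 by ring, h3]
      · rw [← mul_left_comm t, ← pow_mul, ← pow_add, ← pow_add,
          show k 0 + 2 * k 2 + 2 * (k 0 + k 1 + k 2) + k 1 = 3 * (k 0 + k 1 + k 2) + k 2 by ring,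
          h3]
    rw [this]
    exact mul_mem (mul_mem (pow_mem C.scalar_mem _) (pow_mem C.A0_mem _)) C.B0_mem
  · rw [← Units.val_mul, inv_mul_cancel_right, Units.val_mul]; rfl

/-- An involution of determinant one in the normaliser, diagonalised. -/
theorem involution_mem (h2 : (2 : F) ≠ 0) {s : F} (hs : s ≠ 0) (σ : Equiv.Perm (Fin 3)) :
    ∃ (y W : G3), y ∈ Cfsg.Geo.subgroupNormalizer R ∧
      (y : M3) * (W : M3) = (W : M3) * Matrix.diagonal fun i => s * ![1, -1, -1] (σ i) := by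
  let S : M3 := !![-1, 0, 0; 0, 0, -1; 0, -1, 0]
  let Y : G3 := Matrix.GeneralLinearGroup.mkOfDetNeZero (s • S)
    (by simp [S, Matrix.det_smul, Matrix.det_fin_three, hs])
  have hY : (Y : M3) = s • S := rfl
  let Wm : M3 := !![0, 1, 0; 1, 0, 1; -1, 0, 1]
  let W0 : M3 := Wm.submatrix id σ
  let W : G3 := Matrix.GeneralLinearGroup.mkOfDetNeZero W0 (by
    show (Wm.submatrix id σ).det ≠ 0
    rw [Matrix.det_permute']
    have h : Wm.det ≠ 0 := by
      simp [Wm, Matrix.det_fin_three]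
      intro hh
      exact h2 (by linear_combination -hh)
    rcases Int.units_eq_one_or (Equiv.Perm.sign σ) with h1 | h1 <;> simp [h1, h])
  refine ⟨C.P * Y * C.P⁻¹, C.P * W, C.conj_mem_normalizer ?_ ?_, ?_⟩
  · have : Y * C.A0 * Y⁻¹ = C.A0 ^ 2 := by
      rw [mul_inv_eq_iff_eq_mul]
      apply Units.ext
      simp only [Units.val_mul, Units.val_pow_eq_pow_val, hY]
      show _ * ((C.P⁻¹ * C.A * C.P : G3) : M3) = ((C.P⁻¹ * C.A * C.P : G3) : M3) ^ 2 * _
      rw [C.cA, smul_mul_assoc, mul_smul_comm]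
      congr 1
      ext i j
      fin_cases i <;> fin_cases j <;>
        simp [S, dA, Matrix.diagonal_pow, Matrix.mul_diagonal, Matrix.diagonal_mul, -Matrix.cons_mul]
      linear_combination -C.ω * C.hω3
    rw [this]; exact pow_mem C.A0_mem 2
  · have : Y * C.B0 * Y⁻¹ = C.B0 ^ 2 := by
      rw [mul_inv_eq_iff_eq_mul]
      apply Units.ext
      simp only [Units.val_mul, Units.val_pow_eq_pow_val, hY]
      show _ * ((C.P⁻¹ * C.B * C.P : G3) : M3) = ((C.P⁻¹ * C.B * C.P : G3) : M3) ^ 2 * _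
      rw [C.cB, smul_mul_assoc, mul_smul_comm]
      congr 1
      ext i j
      fin_cases i <;> fin_cases j <;>
        simp [S, dB, pow_two, Matrix.mul_apply, Fin.sum_univ_three]
    rw [this]; exact pow_mem C.B0_mem 2
  · rw [← Units.val_mul, show C.P * Y * C.P⁻¹ * (C.P * W) = C.P * (Y * W) by group, Units.val_mul,
      Units.val_mul, Units.val_mul, mul_assoc]
    congr 1
    rw [hY]
    show (s • S) * W0 = W0 * _
    ext i j
    rw [Matrix.mul_diagonal]
    show ((s • S) * Wm.submatrix id σ) i j = Wm i (σ j) * _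
    simp only [Matrix.mul_apply, Matrix.submatrix_apply, id]
    generalize σ j = c
    fin_cases i <;> fin_cases c <;> simp [S, Wm, Fin.sum_univ_three]

/-- Prime orders above three only occur for scalars. -/
theorem eq_scalar_of_mem (hR : Nat.card R = 27) {r : ℕ} [hr : Fact r.Prime] (hr5 : 5 ≤ r)
    {g : G3} (hg : g ∈ Cfsg.Geo.subgroupNormalizer R) (hgr : g ^ r = 1) :
    ∃ z : F, (g : M3) = z • (1 : M3) := by
  classical
  have := Fintype.ofFinite R
  rw [Cfsg.Geo.subgroupNormalizer, Subgroup.mem_normalizer_iff] at hg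
  let σ : Equiv.Perm R :=
    { toFun := fun n => ⟨g * n * g⁻¹, (hg n).1 n.2⟩
      invFun := fun n => ⟨g⁻¹ * n * g, (hg _).2 (by
        have h : g * (g⁻¹ * (n : G3) * g) * g⁻¹ = n := by group
        exact h.symm ▸ n.2)⟩
      left_inv := fun n => Subtype.ext (show g⁻¹ * (g * (n : G3) * g⁻¹) * g = n by group)
      right_inv := fun n => Subtype.ext (show g * (g⁻¹ * (n : G3) * g) * g⁻¹ = n by group) }
  have hpow : ∀ (j : ℕ) (n : R), (((σ ^ j) n : R) : G3) = g ^ j * n * (g ^ j)⁻¹ := by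
    intro j
    induction j with
    | zero => intro n; simp
    | succ i ih =>
      intro n
      rw [pow_succ', Equiv.Perm.mul_apply]
      show g * (((σ ^ i) n : R) : G3) * g⁻¹ = _
      rw [ih, pow_succ' g, mul_inv_rev]; simp [mul_assoc]
  have hσ : σ ^ r ^ 1 = 1 := by
    rw [pow_one]
    refine Equiv.ext fun n => Subtype.ext ?_
    rw [hpow, hgr, one_mul, inv_one, mul_one]; rfl
  let K : Subgroup R := (Subgroup.centralizer {g}).subgroupOf R
  have hfix : ∀ n, n ∈ σ.supportᶜ ↔ n ∈ K := fun n => by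
    rw [Finset.mem_compl, Equiv.Perm.notMem_support, Subgroup.mem_subgroupOf,
      Subgroup.mem_centralizer_singleton_iff]
    constructor
    · intro h
      have h1 : g * (n : G3) * g⁻¹ = n := congrArg Subtype.val h
      rw [mul_inv_eq_iff_eq_mul] at h1
      exact h1.symm
    · intro h
      refine Subtype.ext ?_
      show g * (n : G3) * g⁻¹ = n
      rw [mul_inv_eq_iff_eq_mul]; exact h.symm
  have hcard : σ.supportᶜ.card = Nat.card K := by
    rw [Nat.card_eq_fintype_card, Fintype.card_of_subtype σ.supportᶜ hfix]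
  have hmod := Equiv.Perm.card_compl_support_modEq hσ
  rw [hcard, ← Nat.card_eq_fintype_card, hR] at hmod
  have hZ : C.P * scalarG C.ω C.omega_ne_zero * C.P⁻¹ = scalarG C.ω C.omega_ne_zero := by
    rw [mul_inv_eq_iff_eq_mul]
    apply Units.ext
    simp [scalarG_val]
  have hZR : scalarG C.ω C.omega_ne_zero ∈ R := hZ ▸ C.scalar_mem
  have hK2 : 1 < Nat.card K := by
    refine Finite.one_lt_card_iff_nontrivial.2 (Subgroup.nontrivial_iff_ne_bot _ |>.2 fun hbot => ?_)
    have hm : (⟨_, hZR⟩ : R) ∈ K := by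
      rw [Subgroup.mem_subgroupOf, Subgroup.mem_centralizer_singleton_iff]
      apply Units.ext
      simp [scalarG_val]
    rw [hbot, Subgroup.mem_bot] at hm
    have h1 := congrFun (congrFun (congrArg (fun n : R => ((n : G3) : M3)) hm) 0) 0
    simp [scalarG_val] at h1
    exact C.hω h1
  have hdvd := Subgroup.card_subgroup_dvd_card K
  rw [hR] at hdvd
  have hK : K = ⊤ := by
    refine Subgroup.eq_top_of_card_eq _ ?_
    rw [hR]
    rw [show 27 = 3 ^ 3 by norm_num] at hdvd
    obtain ⟨j, hj, hj'⟩ := (Nat.dvd_prime_pow Nat.prime_three).1 hdvd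
    have hd : r ∣ 27 - Nat.card K :=
      (Nat.modEq_iff_dvd' (Nat.le_of_dvd (by norm_num) hdvd)).1 hmod
    rcases (show j = 0 ∨ j = 1 ∨ j = 2 ∨ j = 3 by omega) with rfl | rfl | rfl | rfl
    · rw [hj'] at hK2; simp at hK2
    · exfalso
      rw [hj'] at hd
      have h1 : r ∣ 2 ^ 3 * 3 := by simpa using hd
      rcases hr.out.dvd_mul.1 h1 with h | h
      · have := (Nat.prime_dvd_prime_iff_eq hr.out Nat.prime_two).1 (hr.out.dvd_of_dvd_pow h); omega
      · have := Nat.le_of_dvd (by norm_num) h; omega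
    · exfalso
      rw [hj'] at hd
      have h1 : r ∣ 2 * 3 ^ 2 := by simpa using hd
      rcases hr.out.dvd_mul.1 h1 with h | h
      · have := Nat.le_of_dvd (by norm_num) h; omega
      · have := (Nat.prime_dvd_prime_iff_eq hr.out Nat.prime_three).1 (hr.out.dvd_of_dvd_pow h); omega
    · rw [hj']; norm_num
  have hcom : ∀ n ∈ R, n * g = g * n := fun n hn => by
    have : (⟨n, hn⟩ : R) ∈ K := hK ▸ Subgroup.mem_top _
    rwa [Subgroup.mem_subgroupOf, Subgroup.mem_centralizer_singleton_iff] at this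
  set G0 : G3 := C.P⁻¹ * g * C.P with hG0
  have h0 : ∀ n ∈ R, ((C.P⁻¹ * n * C.P : G3) : M3) * (G0 : M3) =
      (G0 : M3) * ((C.P⁻¹ * n * C.P : G3) : M3) := fun n hn => by
    rw [← Units.val_mul, ← Units.val_mul, hG0,
      show C.P⁻¹ * n * C.P * (C.P⁻¹ * g * C.P) = C.P⁻¹ * (n * g) * C.P by group, hcom n hn]
    congr 1; group
  have hA := h0 _ C.hA
  have hB := h0 _ C.hB
  rw [C.cA] at hA
  rw [C.cB] at hB
  set X : M3 := (G0 : M3) with hX
  have hs := prim_sum C.hω3 C.hω
  have hoff : ∀ i j, i ≠ j → X i j = 0 := fun i j hij => by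
    have h := congrFun (congrFun hA i) j
    rw [dA, Matrix.diagonal_mul, Matrix.mul_diagonal] at h
    have hne : ![1, C.ω, C.ω ^ 2] i - ![1, C.ω, C.ω ^ 2] j ≠ 0 := by
      have e1 : C.ω - 1 ≠ 0 := sub_ne_zero.2 C.hω
      have e2 : C.ω ^ 2 - 1 ≠ 0 := fun h => C.hω (by linear_combination C.hω3 - C.ω * h)
      have e3 : C.ω ^ 2 - C.ω ≠ 0 := fun h => mul_ne_zero C.omega_ne_zero e1 (by linear_combination h)
      fin_cases i <;> fin_cases j <;> simp at hij ⊢
      · exact fun h => e1 (by linear_combination -h)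
      · exact fun h => e2 (by linear_combination -h)
      · exact fun h => e1 (by linear_combination h)
      · exact fun h => e3 (by linear_combination -h)
      · exact fun h => e2 (by linear_combination h)
      · exact fun h => e3 (by linear_combination h)
    have h' : (![1, C.ω, C.ω ^ 2] i - ![1, C.ω, C.ω ^ 2] j) * X i j = 0 := by
      linear_combination h
    exact (mul_eq_zero.1 h').resolve_left hne
  have h10 : X 1 1 = X 0 0 := by
    have h := congrFun (congrFun hB 1) 0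
    simp [Matrix.mul_apply, Fin.sum_univ_three, dB, hoff] at h
    exact h.symm
  have h21 : X 2 2 = X 1 1 := by
    have h := congrFun (congrFun hB 2) 1
    simp [Matrix.mul_apply, Fin.sum_univ_three, dB, hoff] at h
    exact h.symm
  have hXs : X = X 0 0 • (1 : M3) := by
    ext i j
    by_cases hij : i = j
    · subst hij
      fin_cases i <;> simp [h10, h21]
    · simp [hoff i j hij, Matrix.one_apply_ne hij]
  refine ⟨X 0 0, ?_⟩
  have hgP : g = C.P * G0 * C.P⁻¹ := by rw [hG0]; group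
  rw [hgP, Units.val_mul, Units.val_mul, ← hX]
  conv_lhs => rw [hXs]
  rw [mul_smul_comm, mul_one, smul_mul_assoc, Units.mul_inv]

theorem le_specialLinear : R ≤ Cfsg.Geo.specialLinear (Fin 3) F := by
  refine C.gen.trans ((Subgroup.closure_le _).2 ?_)
  intro z hz
  simp only [Set.mem_insert_iff, Set.mem_singleton_iff] at hz
  have hc : ∀ n : G3, Matrix.GeneralLinearGroup.det n =
      Matrix.GeneralLinearGroup.det (C.P⁻¹ * n * C.P) := fun n => by
    rw [map_mul, map_mul, map_inv, mul_right_comm, inv_mul_cancel, one_mul]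
  show Matrix.GeneralLinearGroup.det z = 1
  rcases hz with rfl | rfl
  · rw [hc]
    apply Units.ext
    rw [Matrix.GeneralLinearGroup.val_det_apply, C.cA]
    simp [dA, Matrix.det_diagonal, Fin.prod_univ_three]
    linear_combination C.hω3
  · rw [hc]
    apply Units.ext
    rw [Matrix.GeneralLinearGroup.val_det_apply, C.cB]
    simp [dB, Matrix.det_fin_three]

end Coords

end Cfsg.Agent.Lib.Elusive19.Heisenberg3
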