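import Cfsg.Agent.Lib.Forms.Bridge
import Cfsg.Agent.Lib.Orth52.Classify
import Cfsg.Agent.Lib.Elusive.SympUnipotent
import Cfsg.Agent.Lib.JordanType.Glue
import Cfsg.Prelude.Def_GeometricClasses

/-!
Unipotent isometries of quadratic forms in odd characteristic: every admissible partition with an odd
part is the Jordan type of an element of any nondegenerate quadratic space of that dimension.
-/

set_option autoImplicit false

namespace Cfsg.Agent.Lib.Elusive19.OrthUnipotent

open Module QuadraticMap Cfsg.Agent.Lib.Forms Cfsg.Agent.Lib.JordanType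
open Cfsg.Agent.Lib.Elusive.UnipotentType (parts)

variable {F : Type*} [Field F]
variable {V : Type*} [AddCommGroup V] [Module F V]
variable {V' : Type*} [AddCommGroup V'] [Module F V']

/-- The even parts have even multiplicity. -/
def EvenPaired (μ : Multiset ℕ) : Prop := ∀ e : ℕ, Even e → Even (μ.count e)

/-- Some unipotent isometry of `Q` has block sizes `μ`. -/
def Realises (Q : QuadraticForm F V) (μ : Multiset ℕ) : Prop :=
  ∃ (s : ℕ) (d : Fin s → ℕ) (N : Module.End F V),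
    (∀ k, 1 ≤ d k) ∧ parts d = μ ∧ Nonempty (Coords N d) ∧ ∀ x, Q (x + N x) = Q x

theorem Realises.congr {Q : QuadraticForm F V} {Q' : QuadraticForm F V'} {μ : Multiset ℕ}
    (h : Realises Q μ) (he : Q.Equivalent Q') : Realises Q' μ := by
  obtain ⟨e⟩ := he
  obtain ⟨s, d, N, hd, hμ, ⟨C⟩, hN⟩ := h
  refine ⟨s, d, e.toLinearEquiv.conj N, hd, hμ,
    ⟨C.map e.toLinearEquiv fun x => by simp [LinearEquiv.conj_apply]⟩, fun y => ?_⟩
  obtain ⟨x, rfl⟩ := e.toLinearEquiv.surjective y
  rw [show e.toLinearEquiv x + e.toLinearEquiv.conj N (e.toLinearEquiv x) =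
    e.toLinearEquiv (x + N x) by simp [LinearEquiv.conj_apply]]
  exact (e.map_app _).trans ((hN x).trans (e.map_app x).symm)

theorem Realises.smul {Q : QuadraticForm F V} {μ : Multiset ℕ} (h : Realises Q μ) (t : F) :
    Realises (t • Q) μ := by
  obtain ⟨s, d, N, hd, hμ, hC, hN⟩ := h
  exact ⟨s, d, N, hd, hμ, hC, fun x => by simp [hN x]⟩

theorem Realises.prod {Q : QuadraticForm F V} {Q' : QuadraticForm F V'} {μ ν : Multiset ℕ}
    (h : Realises Q μ) (h' : Realises Q' ν) : Realises (Q.prod Q') (μ + ν) := by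
  classical
  obtain ⟨s₁, d₁, N₁, hd₁, rfl, ⟨C₁⟩, hN₁⟩ := h
  obtain ⟨s₂, d₂, N₂, hd₂, rfl, ⟨C₂⟩, hN₂⟩ := h'
  let glue : ((((k : Fin s₁) × Fin (d₁ k)) → F) × (((k : Fin s₂) × Fin (d₂ k)) → F)) ≃ₗ[F]
      (((k : Fin s₁ ⊕ Fin s₂) × Fin (Sum.elim d₁ d₂ k)) → F) :=
    (LinearEquiv.sumArrowLequivProdArrow _ _ F F).symm ≪≫ₗ
      LinearEquiv.funCongrLeft F F (Equiv.sumSigmaDistrib fun k => Fin (Sum.elim d₁ d₂ k))
  let E := C₁.E.prodCongr C₂.E ≪≫ₗ glue
  have hl : ∀ (x : V × V') k i, E x ⟨Sum.inl k, i⟩ = C₁.E x.1 ⟨k, i⟩ := fun x k i => rfl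
  have hr : ∀ (x : V × V') k i, E x ⟨Sum.inr k, i⟩ = C₂.E x.2 ⟨k, i⟩ := fun x k i => rfl
  let C : Coords (N₁.prodMap N₂) (Sum.elim d₁ d₂) :=
    { E := E
      zero' := fun x k h => by
        rcases k with k | k
        · rw [hl]; exact C₁.zero' _ k h
        · rw [hr]; exact C₂.zero' _ k h
      succ' := fun x k i h => by
        rcases k with k | k
        · rw [hl, hl]; exact C₁.succ' _ k i h
        · rw [hr, hr]; exact C₂.succ' _ k i h }
  refine ⟨s₁ + s₂, Sum.elim d₁ d₂ ∘ finSumFinEquiv.symm, N₁.prodMap N₂, fun k => ?_, ?_,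
    ⟨C.reindex finSumFinEquiv fun k => by simp⟩, fun x => ?_⟩
  · rcases h0 : finSumFinEquiv.symm k with a | a <;> simp [Function.comp_apply, h0, hd₁, hd₂]
  · rw [← Elusive.UnipotentType.parts_sum_elim]
    unfold parts
    rw [← Multiset.map_map]
    congr 1
    exact congrArg Finset.val (Finset.map_univ_equiv finSumFinEquiv.symm)
  · simp [hN₁ x.1, hN₂ x.2]

theorem exists_parts_eq (μ : Multiset ℕ) : ∃ (s : ℕ) (d : Fin s → ℕ), parts d = μ :=
  ⟨μ.toList.length, μ.toList.get, by rw [parts, Fin.univ_val_map, List.ofFn_get, Multiset.coe_toList]⟩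

/-- Some nondegenerate quadratic space has a unipotent isometry of type `μ`. -/
theorem exists_space (h2 : (2 : F) ≠ 0) (μ : Multiset ℕ) (hpos : ∀ a ∈ μ, 0 < a)
    (hpar : EvenPaired μ) :
    ∃ (s : ℕ) (d : Fin s → ℕ) (Q : QuadraticForm F (((k : Fin s) × Fin (d k)) → F)),
      Nondeg Q ∧ Realises Q μ ∧ ∑ k, d k = μ.sum := by
  classical
  obtain ⟨s, d, hd⟩ := exists_parts_eq μ
  subst hd
  choose S hS1 hS2 hS3 using fun n : ℕ => (if hn : Odd n then
      (let ⟨b, h1, h2', h3⟩ := exists_symm_single (F := F) h2 (n / 2)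
       (Nat.two_mul_div_two_add_one_of_odd hn) ▸ ⟨b, fun _ x y => h1 y x, fun _ => h2', fun _ => h3⟩)
    else ⟨0, fun h => absurd h hn, fun h => absurd h hn, fun h => absurd h hn⟩ :
    ∃ S : LinearMap.BilinForm F (Fin n → F), (Odd n → ∀ x y, S y x = S x y) ∧
      (Odd n → ∀ x, (∀ y, S x y = 0) → x = 0) ∧
      (Odd n → ∀ x y, S (x + sh F n x) (y + sh F n y) = S x y))
  obtain ⟨B, hnd, hsym, hinv, -⟩ := exists_glue d (ε := (1 : F)) (one_mul 1) Odd (fun j hj => by
      rw [← Elusive.UnipotentType.count_parts]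
      exact hpar j (Nat.not_odd_iff_even.1 hj)) S
    (fun n hn x y => by rw [one_mul]; exact hS1 n hn x y) hS2 hS3
  have hpol : ∀ x y, polar (LinearMap.BilinMap.toQuadraticMap B) x y = 2 * B x y := fun x y => by
    rw [LinearMap.BilinMap.polar_toQuadraticMap, hsym x y]; ring
  refine ⟨s, d, LinearMap.BilinMap.toQuadraticMap B, fun x hx => hnd x fun y => ?_,
    ⟨s, d, _, fun k => hpos _ (Multiset.mem_map_of_mem d (Finset.mem_univ k)), rfl,
      ⟨stdCoords d⟩, fun x => ?_⟩, rfl⟩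
  · exact (mul_eq_zero.1 ((hpol x y).symm.trans (hx y))).resolve_left h2
  · rw [LinearMap.BilinMap.toQuadraticMap_apply, LinearMap.BilinMap.toQuadraticMap_apply]
    exact hinv x x

theorem finrank_space {s : ℕ} (d : Fin s → ℕ) :
    finrank F (((k : Fin s) × Fin (d k)) → F) = ∑ k, d k := by
  rw [finrank_pi, Fintype.card_sigma]; simp

/-- Nondegenerate forms of the same odd dimension are similar. -/
theorem odd_similar [Finite F] [FiniteDimensional F V] [FiniteDimensional F V']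
    {Q : QuadraticForm F V} {Q' : QuadraticForm F V'} (hQ : Nondeg Q) (hQ' : Nondeg Q')
    (hdim : finrank F V = finrank F V') (hodd : Odd (finrank F V)) :
    ∃ t : F, t ≠ 0 ∧ (t • Q').Equivalent Q := by
  obtain ⟨k, hk⟩ := hodd
  rcases classify Q hQ with ⟨m, hm, -⟩ | ⟨m, c, hc, -, hm, ⟨e⟩⟩ | ⟨m, a, b, -, hm, -⟩
  · omega
  swap
  · omega
  rcases classify Q' hQ' with ⟨m', hm', -⟩ | ⟨m', c', hc', -, hm', ⟨e'⟩⟩ | ⟨m', a, b, -, hm', -⟩
  · omega
  swap
  · omega
  obtain rfl : m' = m := by omega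
  have ht : c / c' ≠ 0 := div_ne_zero hc hc'
  obtain ⟨g, hg⟩ := Orth52.exists_similar_qPlus (F := F) m' ht
  refine ⟨c / c', ht, Equivalent.trans ⟨{ e'.toLinearEquiv.trans (g.prodCongr (LinearEquiv.refl F F))
    with map_app' := fun x => ?_ }⟩ ⟨e.symm⟩⟩
  show ((qPlus m').prod (qOne c)) (g (e'.toLinearEquiv x).1, (e'.toLinearEquiv x).2) =
    (c / c') • Q' x
  rw [← e'.map_app x, QuadraticMap.prod_apply, hg, qOne_apply, smul_eq_mul,
    show e' x = ((e'.toLinearEquiv x).1, (e'.toLinearEquiv x).2) from rfl, QuadraticMap.prod_apply,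
    qOne_apply]
  field_simp

theorem exists_split [Finite F] [FiniteDimensional F V] (h2 : (2 : F) ≠ 0) {Q : QuadraticForm F V}
    (hQ : Nondeg Q) {e r : ℕ} (h : e + r = finrank F V) :
    ∃ (Q₁ : QuadraticForm F (Fin e → F)) (Q₂ : QuadraticForm F (Fin r → F)),
      Nondeg Q₁ ∧ Nondeg Q₂ ∧ Q.Equivalent (Q₁.prod Q₂) := by
  letI : Invertible (2 : F) := invertibleOfNonzero h2
  obtain ⟨w, ⟨φ⟩⟩ := QuadraticForm.equivalent_weightedSumSquares Q
  let σ : Fin e ⊕ Fin r ≃ Fin (finrank F V) := finSumFinEquiv.trans (finCongr h)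
  let L : (Fin (finrank F V) → F) ≃ₗ[F] (Fin e → F) × (Fin r → F) :=
    LinearEquiv.funCongrLeft F F σ ≪≫ₗ LinearEquiv.sumArrowLequivProdArrow _ _ F F
  have hmap : ∀ x, weightedSumSquares F (w ∘ σ ∘ Sum.inl) (L x).1 +
      weightedSumSquares F (w ∘ σ ∘ Sum.inr) (L x).2 = weightedSumSquares F w x := fun x => by
    rw [weightedSumSquares_apply, weightedSumSquares_apply, weightedSumSquares_apply,
      ← Equiv.sum_comp σ, Fintype.sum_sum_type]
    rfl
  have he : Q.Equivalent ((weightedSumSquares F (w ∘ σ ∘ Sum.inl)).prod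
      (weightedSumSquares F (w ∘ σ ∘ Sum.inr))) :=
    Equivalent.trans ⟨φ⟩ ⟨{ L with map_app' := hmap }⟩
  obtain ⟨ψ⟩ := he
  have hP := hQ.of_equiv ψ
  refine ⟨_, _, fun x hx => ?_, fun x hx => ?_, ⟨ψ⟩⟩
  · exact congrArg Prod.fst (hP (x, 0) fun y => by rw [Orth52.prod_polar, hx]; simp)
  · exact congrArg Prod.snd (hP (0, x) fun y => by rw [Orth52.prod_polar, hx]; simp)

theorem EvenPaired.of_cons {μ : Multiset ℕ} {e : ℕ} (he : Odd e) (h : EvenPaired (e ::ₘ μ)) :
    EvenPaired μ := fun a ha => by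
  have hae : a ≠ e := fun hae => Nat.not_even_iff_odd.2 he (hae ▸ ha)
  simpa [Multiset.count_cons, hae] using h a ha

theorem realises_of_odd [Finite F] [FiniteDimensional F V] (h2 : (2 : F) ≠ 0)
    {Q : QuadraticForm F V} (hQ : Nondeg Q) {μ : Multiset ℕ} (hpos : ∀ a ∈ μ, 0 < a)
    (hpar : EvenPaired μ) (hsum : μ.sum = finrank F V) (hodd : Odd (finrank F V)) :
    Realises Q μ := by
  obtain ⟨s, d, Q', hQ', hR, hd⟩ := exists_space h2 μ hpos hpar
  obtain ⟨t, -, he⟩ := odd_similar hQ hQ' (by rw [finrank_space, hd, hsum]) hodd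
  exact (hR.smul t).congr he

/-- Every admissible partition with an odd part occurs. -/
theorem realise [Finite F] [FiniteDimensional F V] (h2 : (2 : F) ≠ 0)
    {Q : QuadraticForm F V} (hQ : Nondeg Q) {μ : Multiset ℕ} (hpos : ∀ a ∈ μ, 0 < a)
    (hpar : EvenPaired μ) (hsum : μ.sum = finrank F V) (hex : ∃ e ∈ μ, Odd e) :
    Realises Q μ := by
  rcases Nat.even_or_odd (finrank F V) with hev | hodd
  swap
  · exact realises_of_odd h2 hQ hpos hpar hsum hodd
  obtain ⟨e, he, hoe⟩ := hex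
  obtain ⟨r, rfl⟩ := Multiset.exists_cons_of_mem he
  rw [Multiset.sum_cons] at hsum
  obtain ⟨Q₁, Q₂, h₁, h₂, hsplit⟩ := exists_split h2 hQ hsum
  have hr : Odd r.sum := by
    rw [← hsum] at hev
    exact Nat.not_even_iff_odd.1 fun hr => Nat.not_even_iff_odd.2 hoe ((Nat.even_add.1 hev).2 hr)
  have A := realises_of_odd (μ := {e}) h2 h₁ (fun a ha => hpos a (by simp_all))
    (fun a ha => by
      have hae : a ≠ e := fun hae => Nat.not_even_iff_odd.2 hoe (hae ▸ ha)
      simp [hae])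
    (by simp) (by simpa using hoe)
  have B := realises_of_odd h2 h₂ (fun a ha => hpos a (Multiset.mem_cons_of_mem ha))
    (hpar.of_cons hoe) (by simp) (by simpa using hr)
  simpa using (A.prod B).congr hsplit.symm

/-- An invariant nondegenerate subspace picks an admissible sub-partition; if it has only parts
two, it has plus type. -/
theorem sub_partition [FiniteDimensional F V] (h2 : (2 : F) ≠ 0) {Q : QuadraticForm F V}
    (hQ : Nondeg Q) {s : ℕ} {d : Fin s → ℕ} {N : Module.End F V} (hd : ∀ k, 1 ≤ d k)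
    (C : Coords N d) (hiso : ∀ x, Q (x + N x) = Q x) {W : Submodule F V}
    (hW : ∀ x ∈ W, N x ∈ W) (hWnd : ∀ x ∈ W, (∀ y ∈ W, polar Q x y = 0) → x = 0) :
    ∃ ν, ν ≤ parts d ∧ ν.sum = finrank F W ∧ EvenPaired ν ∧
      ((∀ a ∈ ν, a = 2) → ∃ U ≤ W, (∀ u ∈ U, Q u = 0) ∧ 2 * finrank F U = finrank F W) := by
  classical
  have hnil : IsNilpotent N := ⟨∑ k, d k, C.pow_eq_zero_iff.2 fun k =>
    Finset.single_le_sum (fun i _ => Nat.zero_le (d i)) (Finset.mem_univ k)⟩
  have hpol : ∀ x y, polar Q (x + N x) (y + N y) = polar Q x y := fun x y =>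
    polar_map (LinearMap.id + N) hiso x y
  let B : LinearMap.BilinForm F V := polarBilin Q
  have hB : B.Nondegenerate := hQ.polarBilin
  have hrefl : B.IsRefl := fun x y h => by
    rw [polarBilin_apply_apply, polar_comm] at h; exact h
  have hWb : (B.restrict W).Nondegenerate :=
    ⟨fun x hx => Subtype.ext (hWnd x x.2 fun y hy => hx ⟨y, hy⟩),
      fun x hx => Subtype.ext (hWnd x x.2 fun y hy => by
        rw [polar_comm]; exact hx ⟨y, hy⟩)⟩
  have hc : IsCompl W (B.orthogonal W) :=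
    (LinearMap.BilinForm.restrict_nondegenerate_iff_isCompl_orthogonal hrefl).1 hWb
  have hWs : ∀ w ∈ W, ∃ v ∈ W, v + N v = w := fun w hw => by
    let T : W →ₗ[F] W := LinearMap.id + N.restrict hW
    have hT : Function.Injective T := by
      refine (injective_iff_map_eq_zero T).2 fun v hv => Subtype.ext (hQ (v : V) fun y => ?_)
      have hv' : (v : V) + N v = 0 := congrArg Subtype.val hv
      rw [← hpol, hv', polar_zero_left]
    obtain ⟨v, hv⟩ := LinearMap.injective_iff_surjective.1 hT ⟨w, hw⟩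
    exact ⟨v, v.2, congrArg Subtype.val hv⟩
  have hO : ∀ x ∈ B.orthogonal W, N x ∈ B.orthogonal W := fun x hx => by
    rw [LinearMap.BilinForm.mem_orthogonal_iff] at hx ⊢
    intro w hw
    obtain ⟨v, hv, rfl⟩ := hWs w hw
    show polar Q (v + N v) (N x) = 0
    rw [show N x = (x + N x) - x by abel, polar_sub_right, hpol]
    have h1 : polar Q v x = 0 := hx v hv
    have h2 : polar Q (v + N v) x = 0 := hx _ (W.add_mem hv (hW v hv))
    rw [h1, h2, sub_zero]
  obtain ⟨ν, hν⟩ := Elusive.SympUnipotent.exists_parts hnil hW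
  obtain ⟨ν', hν'⟩ := Elusive.SympUnipotent.exists_parts hnil hO
  have htop := hν.sup hν' hc.inf_eq_bot
  rw [hc.sup_eq_top] at htop
  have htop' : Elusive.SympUnipotent.HasParts N (⊤ : Submodule F V) (parts d) :=
    ⟨fun _ _ => trivial, s, d, hd, rfl, ⟨C.map Submodule.topEquiv.symm fun x => rfl⟩⟩
  have hsum := htop.unique htop'
  refine ⟨ν, hsum ▸ Multiset.le_add_right _ _, hν.finrank_eq.symm, ?_, ?_⟩
  · intro a ha
    obtain ⟨hX, t, c, hc1, rfl, ⟨C'⟩⟩ := hν
    rcases Nat.eq_zero_or_pos a with rfl | ha0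
    · have h0 : (parts c).count 0 = 0 := Multiset.count_eq_zero.2 fun h => by
        obtain ⟨k, -, hk⟩ := Multiset.mem_map.1 h
        have := hc1 k
        omega
      rw [h0]; exact Even.zero
    rw [Elusive.UnipotentType.count_parts]
    exact even_count_of_symm hWb (fun x y => polar_comm Q (x : V) y) h2
      (fun x y => hpol (x : V) y) C' ha ha0
  · intro htwo
    obtain ⟨hX, t, c, hc1, rfl, ⟨C'⟩⟩ := hν
    have hc2 : ∀ k, c k = 2 := fun k => htwo _ (Multiset.mem_map_of_mem c (Finset.mem_univ k))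
    refine ⟨W.map N, Submodule.map_le_iff_le_comap.2 fun x hx => hW x hx, ?_, ?_⟩
    · rintro _ ⟨x, hx, rfl⟩
      have hz : N (N x) = 0 := by
        have h := C'.pow_eq_zero_iff.2 (fun k => (hc2 k).le)
        exact congrArg Subtype.val (LinearMap.congr_fun h ⟨x, hx⟩)
      have h1 := hpol x (N x)
      rw [hz, add_zero, polar_add_left] at h1
      have h3 : polar Q (N x) (N x) = 0 := by linear_combination h1
      rw [polar_self'] at h3
      exact (mul_eq_zero.1 h3).resolve_left h2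
    · have hk := C'.finrank_ker_pow 1
      rw [pow_one] at hk
      have hr := LinearMap.finrank_range_add_finrank_ker (N.restrict hX)
      have hrange : finrank F (LinearMap.range (N.restrict hX)) = finrank F (W.map N) := by
        have hrc : (LinearMap.range (N.restrict hX)).map W.subtype = W.map N := by
          rw [← LinearMap.range_comp,
            show W.subtype ∘ₗ N.restrict hX = N ∘ₗ W.subtype from rfl, LinearMap.range_comp,
            Submodule.range_subtype]
        rw [← hrc, Submodule.finrank_map_subtype_eq]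
      have hs := C'.sum_eq_finrank
      simp only [hc2, min_eq_right (show 1 ≤ 2 by omega), Finset.sum_const, smul_eq_mul] at hk hs
      omega

variable {ι : Type} [Fintype ι] [DecidableEq ι] {p : ℕ} [hp : Fact p.Prime] [CharP F p]
variable {Qf : QuadraticForm F (ι → F)} {f : (ι → F) → F}

/-- The element of order `p` of a given type, and the sub-partition of a subspace it fixes. -/
theorem fixed_partition [Fintype F] (hpodd : p ≠ 2) (hf : ∀ v, f v = Qf v) (hQ : Nondeg Qf)
    (hn : 2 ≤ Fintype.card ι) {μ : Multiset ℕ} (hμ : ∀ a ∈ μ, 0 < a ∧ a ≤ p) (hpar : EvenPaired μ)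
    (hsum : μ.sum = Fintype.card ι) (hex : ∃ e ∈ μ, Odd e) (hne : ∃ e ∈ μ, e ≠ 1)
    {P : Submodule F (ι → F) → Prop}
    (h : ∀ x : GL ι F, x ∈ Cfsg.Geo.omegaGL f → x ^ p = 1 →
      (∀ z : F, (x : Matrix ι ι F) ≠ z • (1 : Matrix ι ι F)) →
      ∃ W, P W ∧ W.map (Matrix.toLin' (x : Matrix ι ι F)) ≤ W)
    (hP : ∀ W, P W → Cfsg.Geo.IsNondegenerateOn (QuadraticMap.polar f) W) :
    ∃ W, P W ∧ ∃ ν, ν ≤ μ ∧ ν.sum = finrank F W ∧ EvenPaired ν ∧
      ((∀ a ∈ ν, a = 2) → Cfsg.Geo.IsPlusTypeOn f W) := by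
  classical
  have h2 : (2 : F) ≠ 0 := Ring.two_ne_zero (by rwa [ringChar.eq F p])
  obtain ⟨s, d, N, hd, rfl, ⟨C⟩, hiso⟩ := realise h2 hQ (fun a ha => (hμ a ha).1) hpar
    (by rw [hsum, finrank_fintype_fun_eq_card]) hex
  have hmem : ∀ k, d k ∈ parts d := fun k => Multiset.mem_map_of_mem d (Finset.mem_univ k)
  have hNp : N ^ p = 0 := C.pow_eq_zero_iff.mpr fun k => (hμ _ (hmem k)).2
  have hNne : N ≠ 0 := fun h0 => by
    obtain ⟨e, he, he1⟩ := hne
    obtain ⟨k, -, rfl⟩ := Multiset.mem_map.1 he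
    have := (C.pow_eq_zero_iff (j := 1)).1 (by rw [pow_one, h0]) k
    have := hd k
    omega
  let L : Module.End F (ι → F) := 1 + N
  have hL : ∀ v, L v = v + N v := fun v => rfl
  have hinj : Function.Injective L := injective_of_isometry hQ L fun v => hiso v
  let g : orth Qf := ⟨LinearEquiv.ofInjectiveEndo L hinj, fun v => hiso v⟩
  have hg : ∀ v, g.1 v = L v := fun v => rfl
  have hgp : g ^ p = 1 := by
    have hpow : ∀ (j : ℕ) v, (g ^ j).1 v = (L ^ j) v := by
      intro j
      induction j with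
      | zero => intro v; rfl
      | succ j ih =>
        intro v
        rw [pow_succ, pow_succ, Subgroup.coe_mul, Module.End.mul_apply, ← hg, ← ih]
        rfl
    refine Subtype.ext (LinearEquiv.ext fun v => ?_)
    rw [hpow, show L ^ p = 1 + N ^ p from Elusive.UnipotentType.one_add_pow_char p N, hNp, add_zero]
    rfl
  have hcom : g ∈ commutator (orth Qf) := by
    rw [← QuotientGroup.eq_one_iff]
    have h4 : (QuotientGroup.mk g : orth Qf ⧸ commutator (orth Qf)) ^ 4 = 1 := by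
      rw [← QuotientGroup.mk_pow, QuotientGroup.eq_one_iff,
        ← index_commutator_odd hQ h2 (by rwa [finrank_fintype_fun_eq_card])]
      exact Subgroup.pow_index_mem _ g
    have hpp : (QuotientGroup.mk g : orth Qf ⧸ commutator (orth Qf)) ^ p = 1 := by
      rw [← QuotientGroup.mk_pow, hgp]; rfl
    have hgcd : Nat.gcd 4 p = 1 := by
      have h1 : Nat.Coprime (2 ^ 2) p :=
        Nat.Coprime.pow_left _ ((Nat.coprime_primes Nat.prime_two hp.out).2 hpodd.symm)
      exact h1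
    have := pow_gcd_eq_one.2 ⟨h4, hpp⟩
    rwa [hgcd, pow_one] at this
  set k := (isoOrth Qf hf).symm g with hk
  have happ : ∀ v, ((k : GL ι F) : Matrix ι ι F).mulVec v = L v := fun v => by
    rw [← isoOrth_apply Qf hf k v, hk, MulEquiv.apply_symm_apply, hg]
  have hns : ∀ z : F, ((k : GL ι F) : Matrix ι ι F) ≠ z • (1 : Matrix ι ι F) := by
    intro z hz
    have hs : ∀ v, L v = z • v := fun v => by
      rw [← happ, hz, Matrix.smul_mulVec, Matrix.one_mulVec]
    have hN : N = (z - 1) • (1 : Module.End F (ι → F)) := LinearMap.ext fun v => by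
      have hv : v + N v = z • v := hs v
      rw [LinearMap.smul_apply, Module.End.one_apply, sub_smul, one_smul, ← hv, add_sub_cancel_left]
    rw [hN, smul_pow, one_pow] at hNp
    rcases smul_eq_zero.1 hNp with h0 | h0
    · rw [eq_zero_of_pow_eq_zero h0, zero_smul] at hN
      exact hNne hN
    · rw [h0, smul_zero] at hN
      exact hNne hN
  obtain ⟨W, hW, hmap⟩ := h (k : GL ι F)
    ⟨k, (mem_commutator_equiv (isoOrth Qf hf).symm g).1 hcom, rfl⟩
    (by rw [← Subgroup.coe_pow, hk, ← map_pow, hgp, map_one]; rfl) hns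
  have hWN : ∀ x ∈ W, N x ∈ W := fun x hx => by
    have h1 : L x ∈ W := by
      rw [← happ]; exact hmap ⟨x, hx, Matrix.toLin'_apply _ x⟩
    simpa [hL] using W.sub_mem h1 hx
  have hfQ : f = ⇑Qf := funext hf
  obtain ⟨ν, hν, hνs, hνp, hplus⟩ := sub_partition h2 hQ hd C hiso hWN fun x hx hxy => by
    by_contra hx0
    obtain ⟨-, y, hy, hne'⟩ := hP W hW x hx hx0
    exact hne' (by rw [hfQ]; exact hxy y hy)
  refine ⟨W, hW, ν, hν, hνs, hνp, fun htwo => ?_⟩
  obtain ⟨U, hU, hQU, hUd⟩ := hplus htwo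
  exact ⟨U, hU, fun u hu => (hf u).trans (hQU u hu), hUd⟩

/-! ### Partitions -/

theorem even_sum_replicate_two {ν : Multiset ℕ} {j : ℕ} (hν : ν ≤ Multiset.replicate j 2)
    (hpar : EvenPaired ν) : ∃ i, ν.sum = 4 * i ∧ ∀ a ∈ ν, a = 2 := by
  obtain ⟨c, -, rfl⟩ := Multiset.le_replicate_iff.1 hν
  obtain ⟨i, hi⟩ := hpar 2 even_two
  rw [Multiset.count_replicate_self] at hi
  exact ⟨i, by simp [hi]; ring, fun a ha => Multiset.eq_of_mem_replicate ha⟩

theorem evenPaired_replicate (j : ℕ) : EvenPaired (Multiset.replicate (2 * j) 2) := fun e _ => by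
  rw [Multiset.count_replicate]
  split <;> simp

theorem EvenPaired.cons {μ : Multiset ℕ} {e : ℕ} (he : Odd e) (h : EvenPaired μ) :
    EvenPaired (e ::ₘ μ) := fun a ha => by
  have hae : a ≠ e := fun hae => Nat.not_even_iff_odd.2 he (hae ▸ ha)
  simpa [Multiset.count_cons, hae] using h a ha

/-- A sub-multiset of even sum of two odd numbers and even numbers. -/
theorem split_two_odd {ν r : Multiset ℕ} {a b : ℕ} (ha : Odd a) (hb : Odd b) (hab : a ≠ b)
    (hr : ∀ x ∈ r, Even x) (hν : ν ≤ a ::ₘ b ::ₘ r) (hs : Even ν.sum) :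
    ν ≤ r ∨ ∃ u, u ≤ r ∧ ν = a ::ₘ b ::ₘ u := by
  have heven : ∀ u, u ≤ r → Even u.sum := fun u hu =>
    even_iff_two_dvd.2 (Multiset.dvd_sum fun x hx => even_iff_two_dvd.1 (hr x (Multiset.mem_of_le hu hx)))
  by_cases h1 : a ∈ ν
  · obtain ⟨t, rfl⟩ := Multiset.exists_cons_of_mem h1
    rw [Multiset.cons_le_cons_iff] at hν
    by_cases h2 : b ∈ t
    · obtain ⟨u, rfl⟩ := Multiset.exists_cons_of_mem h2
      exact Or.inr ⟨u, (Multiset.cons_le_cons_iff _).1 hν, rfl⟩
    · have := heven t ((Multiset.le_cons_of_notMem h2).1 hν)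
      rw [Multiset.sum_cons] at hs
      exact absurd ((Nat.even_add.1 hs).2 this) (Nat.not_even_iff_odd.2 ha)
  · rw [Multiset.le_cons_of_notMem h1] at hν
    by_cases h2 : b ∈ ν
    · obtain ⟨u, rfl⟩ := Multiset.exists_cons_of_mem h2
      have := heven u ((Multiset.cons_le_cons_iff _).1 hν)
      rw [Multiset.sum_cons] at hs
      exact absurd ((Nat.even_add.1 hs).2 this) (Nat.not_even_iff_odd.2 hb)
    · exact Or.inl ((Multiset.le_cons_of_notMem h2).1 hν)

/-- If every admissible partition with an odd part and a part bigger than one has an admissible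
sub-partition of sum `m`, then every admissible partition has. -/
theorem all_partitions {p n m : ℕ} (hp2 : Odd p) (hm : Even m) (hn : 0 < n) (hmn : m ≤ n)
    (h : ∀ μ : Multiset ℕ, (∀ a ∈ μ, 0 < a ∧ a ≤ p) → EvenPaired μ → μ.sum = n →
      (∃ e ∈ μ, Odd e) → (∃ e ∈ μ, e ≠ 1) → ∃ ν, ν ≤ μ ∧ ν.sum = m ∧ EvenPaired ν)
    (μ : Multiset ℕ) (hμ : ∀ a ∈ μ, 0 < a ∧ a ≤ p) (hpar : EvenPaired μ) (hsum : μ.sum = n) :
    ∃ ν, ν ≤ μ ∧ ν.sum = m ∧ EvenPaired ν := by
  by_cases hne : ∃ e ∈ μ, e ≠ 1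
  swap
  · push Not at hne
    have h1 : μ = Multiset.replicate (Multiset.card μ) 1 := Multiset.eq_replicate_card.2 hne
    have hc : Multiset.card μ = n := by rw [← hsum]; conv_rhs => rw [h1]; simp
    refine ⟨Multiset.replicate m 1, ?_, by simp, fun e he => ?_⟩
    · rw [h1, hc]; exact (Multiset.replicate_le_replicate 1).2 hmn
    · rw [Multiset.count_replicate, if_neg (by rintro rfl; exact Nat.not_even_one he)]
      exact Even.zero
  by_cases hex : ∃ e ∈ μ, Odd e
  · exact h μ hμ hpar hsum hex hne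
  push Not at hex
  obtain ⟨e, he, -⟩ := hne
  obtain ⟨t, rfl⟩ := Multiset.exists_cons_of_mem he
  have hee : Even e := Nat.not_odd_iff_even.1 (hex e (Multiset.mem_cons_self e t))
  have het : e ∈ t := by
    by_contra h0
    have := hpar e hee
    rw [Multiset.count_cons_self, Multiset.count_eq_zero.2 h0] at this
    exact Nat.not_even_one this
  obtain ⟨r, rfl⟩ := Multiset.exists_cons_of_mem het
  have he0 := hμ e (Multiset.mem_cons_self _ _)
  have hep : e + 1 ≤ p := by
    have : e ≠ p := fun h0 => Nat.not_even_iff_odd.2 hp2 (h0 ▸ hee)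
    omega
  have he1 : Odd (e + 1) := hee.add_one
  have he2 : Odd (e - 1) := by
    obtain ⟨b, rfl⟩ := hee
    exact ⟨b - 1, by omega⟩
  have hr : ∀ x ∈ r, Even x := fun x hx =>
    Nat.not_odd_iff_even.1 (hex x (Multiset.mem_cons_of_mem (Multiset.mem_cons_of_mem hx)))
  have hparr : EvenPaired r := fun a ha => by
    have h0 := hpar a ha
    by_cases hae : a = e
    · subst hae
      rw [Multiset.count_cons_self, Multiset.count_cons_self] at h0
      rw [show r.count a + 1 + 1 = r.count a + 2 by ring, Nat.even_add] at h0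
      exact h0.2 even_two
    · rwa [Multiset.count_cons_of_ne hae, Multiset.count_cons_of_ne hae] at h0
  obtain ⟨ν, hν, hνs, hνp⟩ := h ((e + 1) ::ₘ (e - 1) ::ₘ r) (fun a ha => by
      rcases Multiset.mem_cons.1 ha with rfl | ha
      · omega
      rcases Multiset.mem_cons.1 ha with rfl | ha
      · obtain ⟨b, hb⟩ := hee
        omega
      exact hμ a (Multiset.mem_cons_of_mem (Multiset.mem_cons_of_mem ha)))
    ((hparr.cons he2).cons he1) (by simp at hsum ⊢; omega)
    ⟨e + 1, Multiset.mem_cons_self _ _, he1⟩ ⟨e + 1, Multiset.mem_cons_self _ _, by omega⟩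
  rcases split_two_odd he1 he2 (by omega) hr hν (hνs ▸ hm) with hle | ⟨u, hu, rfl⟩
  · exact ⟨ν, hle.trans ((Multiset.le_cons_self r e).trans (Multiset.le_cons_self _ e)), hνs, hνp⟩
  · refine ⟨e ::ₘ e ::ₘ u, (Multiset.cons_le_cons_iff _).2 ((Multiset.cons_le_cons_iff _).2 hu),
      by simp at hνs ⊢; omega, fun a ha => ?_⟩
    have hup : Even (u.count a) := by
      have := hνp a ha
      rwa [Multiset.count_cons_of_ne (show a ≠ e + 1 by rintro rfl; exact Nat.not_even_iff_odd.2 he1 ha),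
        Multiset.count_cons_of_ne (show a ≠ e - 1 by rintro rfl; exact Nat.not_even_iff_odd.2 he2 ha)] at this
    by_cases hae : a = e
    · subst hae
      rw [Multiset.count_cons_self, Multiset.count_cons_self]
      exact (hup.add even_two)
    · rwa [Multiset.count_cons_of_ne hae, Multiset.count_cons_of_ne hae]

theorem char_ne_two {K : Type*} [Field K] [Fintype K] {p q : ℕ} [Fact p.Prime] [CharP K p]
    (hq : Fintype.card K = q) (hodd : Odd q) : p ≠ 2 := by
  obtain ⟨n, -, hn⟩ := FiniteField.card K p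
  rintro rfl
  rw [← hq, hn] at hodd
  exact Nat.not_odd_iff_even.2 ((Nat.even_pow).2 ⟨even_two, n.ne_zero⟩) hodd

end Cfsg.Agent.Lib.Elusive19.OrthUnipotent
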