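import Cfsg.Agent.Lib.Unitary.Order

/-!
Unitary eigenbases, and conjugacy in the special unitary group of elements with the same diagonal form.
-/

set_option autoImplicit false
set_option linter.unusedSectionVars false

namespace Cfsg.Agent.Lib.Elusive19.UnitaryEigen

open Matrix Module Cfsg.Agent.Lib.Unitary

variable {F : Type*} [Field F] [Fintype F] {q n : ℕ}

theorem eig_family (hF : Fintype.card F = q ^ 2) {g : Matrix (Fin n) (Fin n) F}
    (hg : ∀ u v, hermForm n F q (g *ᵥ u) (g *ᵥ v) = hermForm n F q u v) {S : Set F}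
    (hS : ∀ μ ∈ S, μ * μ ^ q = 1)
    (hspan : ⊤ ≤ Submodule.span F {v | ∃ μ ∈ S, g *ᵥ v = μ • v}) :
    ∀ j ≤ n, ∃ f : Fin j → Fin n → F, Orthonormal' q f ∧ ∀ i, ∃ μ ∈ S, g *ᵥ f i = μ • f i := by
  classical
  intro j
  induction j with
  | zero => exact fun _ => ⟨Fin.elim0, fun i => i.elim0, fun i => i.elim0⟩
  | succ j ih =>
    intro hj
    obtain ⟨f, hf, hfe⟩ := ih (by omega)
    choose μ hμS hμ using hfe
    have horth : ∀ (u v : Fin n → F) (a b : F), a ∈ S → b ∈ S → g *ᵥ u = a • u → g *ᵥ v = b • v →
        hermForm n F q u v ≠ 0 → a = b := by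
      intro u v a b _ hb hu hv hne
      have h1 := hg u v
      rw [hu, hv, herm_smul_left, herm_smul_right, ← mul_assoc] at h1
      have h2 : a * b ^ q = 1 := mul_right_cancel₀ hne (h1.trans (one_mul _).symm)
      calc a = a * (b * b ^ q) := by rw [hS b hb, mul_one]
        _ = b * (a * b ^ q) := by ring
        _ = b := by rw [h2, mul_one]
    let T : (Fin n → F) → (Fin n → F) := fun v => v - ∑ i, hermForm n F q v (f i) • f i
    have hTf : ∀ v i, hermForm n F q (T v) (f i) = 0 := fun v i => by
      show hermForm n F q (v - _) _ = 0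
      rw [herm_sub_left, orthonormal_coeff hf, sub_self]
    have hTe : ∀ v a, a ∈ S → g *ᵥ v = a • v → g *ᵥ T v = a • T v := by
      intro v a ha hv
      show g *ᵥ (v - _) = _
      rw [Matrix.mulVec_sub, hv, Matrix.mulVec_sum, smul_sub, Finset.smul_sum]
      refine congrArg _ (Finset.sum_congr rfl fun i _ => ?_)
      rw [Matrix.mulVec_smul, hμ, smul_smul, smul_smul]
      by_cases h0 : hermForm n F q v (f i) = 0
      · simp [h0]
      · rw [horth v (f i) a (μ i) ha (hμS i) hv (hμ i) h0, mul_comm]
    by_cases hex : ∃ w, (∀ i, hermForm n F q w (f i) = 0) ∧ hermForm n F q w w ≠ 0 ∧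
        ∃ a ∈ S, g *ᵥ w = a • w
    · obtain ⟨w, hwf, hww, a, ha, hwa⟩ := hex
      obtain ⟨x, hx⟩ := norm_surj hF (y := (hermForm n F q w w)⁻¹) (by
        rw [inv_pow, herm_self_fixed w hF])
      refine ⟨Fin.cons (x • w) f, ?_, ?_⟩
      · intro k l
        refine Fin.cases ?_ (fun k => ?_) k <;> refine Fin.cases ?_ (fun l => ?_) l
        · simp only [Fin.cons_zero, if_true]
          rw [herm_smul_left, herm_smul_right, ← mul_assoc, hx, inv_mul_cancel₀ hww]
        · simp only [Fin.cons_zero, Fin.cons_succ]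
          rw [herm_smul_left, hwf, mul_zero, if_neg (Fin.succ_ne_zero l).symm]
        · simp only [Fin.cons_zero, Fin.cons_succ]
          rw [herm_smul_right, herm_eq_zero_symm hF (hwf k), mul_zero, if_neg (Fin.succ_ne_zero k)]
        · simp only [Fin.cons_succ, Fin.succ_inj]
          exact hf k l
      · refine Fin.cases ⟨a, ha, ?_⟩ (fun i => ⟨μ i, hμS i, ?_⟩)
        · rw [Fin.cons_zero, Matrix.mulVec_smul, hwa, smul_comm]
        · rw [Fin.cons_succ, hμ]
    · exfalso
      push Not at hex
      -- eigenvectors orthogonal to the family are isotropic, hence orthogonal to each other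
      have hE : ∀ u v a b, a ∈ S → b ∈ S → g *ᵥ u = a • u → g *ᵥ v = b • v →
          hermForm n F q (T u) (T v) = 0 := by
        intro u v a b ha hb hu hv
        by_contra hne
        obtain rfl := horth _ _ a b ha hb (hTe u a ha hu) (hTe v b hb hv) hne
        refine hne (eq_zero_of_trace_mul_eq_zero hF fun c => ?_)
        have hiso : ∀ w, (∀ i, hermForm n F q w (f i) = 0) → g *ᵥ w = a • w →
            hermForm n F q w w = 0 := fun w h1 h2 => by
          by_contra h0
          exact hex w h1 h0 a ha h2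
        have h := hiso (c • T u + T v) (fun i => by
            rw [herm_add_left, herm_smul_left, hTf, hTf, mul_zero, add_zero]) (by
            rw [Matrix.mulVec_add, Matrix.mulVec_smul, hTe u a ha hu, hTe v a ha hv, smul_add,
              smul_comm])
        simp only [herm_add_left, herm_add_right _ _ _ hF, herm_smul_left, herm_smul_right,
          hiso (T u) (hTf u) (hTe u a ha hu), hiso (T v) (hTf v) (hTe v a ha hv),
          mul_zero, add_zero, zero_add] at h
        rw [mul_pow, herm_conj (T u) (T v) hF]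
        linear_combination h
      let L : (Fin n → F) →ₗ[F] (Fin n → F) :=
        { toFun := T
          map_add' := fun u v => by
            show u + v - _ = u - _ + (v - _)
            simp only [herm_add_left, add_smul, Finset.sum_add_distrib]; abel
          map_smul' := fun c u => by
            show c • u - _ = c • (u - _)
            simp only [herm_smul_left, mul_smul, ← Finset.smul_sum, smul_sub] }
      have hall : ∀ u v, hermForm n F q (L u) (L v) = 0 := by
        intro u v
        refine Submodule.span_induction (p := fun u _ => hermForm n F q (L u) (L v) = 0) ?_ ?_ ?_ ?_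
          (hspan (Submodule.mem_top : u ∈ ⊤))
        · rintro x ⟨a, ha, hxa⟩
          refine Submodule.span_induction (p := fun v _ => hermForm n F q (L x) (L v) = 0) ?_ ?_ ?_ ?_
            (hspan (Submodule.mem_top : v ∈ ⊤))
          · rintro y ⟨b, hb, hyb⟩
            exact hE x y a b ha hb hxa hyb
          · rw [map_zero, herm_zero_right (hF := hF)]
          · intro y z _ _ h1 h2
            rw [map_add, herm_add_right _ _ _ hF, h1, h2, add_zero]
          · intro c y _ h1
            rw [map_smul, herm_smul_right, h1, mul_zero]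
        · rw [map_zero, herm_zero_left]
        · intro y z _ _ h1 h2
          rw [map_add, herm_add_left, h1, h2, add_zero]
        · intro c y _ h1
          rw [map_smul, herm_smul_left, h1, mul_zero]
      obtain ⟨w, hw, hwf⟩ := orthonormal_extend hF (l := n - j) (by omega) hf
      have hz : ∀ i, L (w i) = w i := fun i => by
        show w i - _ = w i
        simp [hwf i]
      have := hall (w ⟨0, by omega⟩) (w ⟨0, by omega⟩)
      rw [hz, hw, if_pos rfl] at this
      exact one_ne_zero this

/-- A unitary matrix diagonalising a semisimple isometry. -/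
theorem exists_unitary_diag (hF : Fintype.card F = q ^ 2) {g : Matrix (Fin n) (Fin n) F}
    (hg : ∀ u v, hermForm n F q (g *ᵥ u) (g *ᵥ v) = hermForm n F q u v) {S : Set F}
    (hS : ∀ μ ∈ S, μ * μ ^ q = 1)
    (hspan : ⊤ ≤ Submodule.span F {v | ∃ μ ∈ S, g *ᵥ v = μ • v}) :
    ∃ V : Matrix.GeneralLinearGroup (Fin n) F, V ∈ GU n F q ∧ ∃ u : Fin n → F, (∀ i, u i ∈ S) ∧
      g * (V : Matrix (Fin n) (Fin n) F) = (V : Matrix (Fin n) (Fin n) F) * Matrix.diagonal u := by
  obtain ⟨f, hf, hfe⟩ := eig_family hF hg hS hspan n le_rfl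
  choose u huS hu using hfe
  obtain ⟨A, hA⟩ := exists_GU_cols hF hf
  refine ⟨A.1, A.2, u, huS, ?_⟩
  refine Matrix.ext_of_mulVec_single fun i => ?_
  rw [← Matrix.mulVec_mulVec, ← Matrix.mulVec_mulVec, hA, hu, Matrix.diagonal_mulVec_single, mul_one,
    show Pi.single i (u i) = u i • (Pi.single i (1 : F) : Fin n → F) by simp [← Pi.single_smul],
    Matrix.mulVec_smul, hA]

theorem diagonal_mem_GU {d : Fin n → F} (hd : ∀ i, d i * d i ^ q = 1)
    (T : Matrix.GeneralLinearGroup (Fin n) F) (hT : (T : Matrix (Fin n) (Fin n) F) = Matrix.diagonal d) :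
    T ∈ GU n F q := by
  rw [mem_GU_iff]
  intro u v
  rw [hT, hermForm, hermForm]
  refine Finset.sum_congr rfl fun i _ => ?_
  rw [Matrix.mulVec_diagonal, Matrix.mulVec_diagonal, mul_pow]
  linear_combination (u i * v i ^ q) * hd i

/-- Two elements with the same diagonal form in unitary bases are conjugate under `SU`. -/
theorem exists_su_conj (hF : Fintype.card F = q ^ 2) (hn : 0 < n)
    {x y V W : Matrix.GeneralLinearGroup (Fin n) F} (hV : V ∈ GU n F q) (hW : W ∈ GU n F q)
    {u : Fin n → F}
    (hx : (x : Matrix (Fin n) (Fin n) F) * V = (V : Matrix (Fin n) (Fin n) F) * Matrix.diagonal u)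
    (hy : (y : Matrix (Fin n) (Fin n) F) * W = (W : Matrix (Fin n) (Fin n) F) * Matrix.diagonal u) :
    ∃ g ∈ GU n F q, Matrix.GeneralLinearGroup.det g = 1 ∧ g⁻¹ * x * g = y := by
  classical
  set d : F := (W : Matrix (Fin n) (Fin n) F).det / (V : Matrix (Fin n) (Fin n) F).det with hd
  have hV0 : (V : Matrix (Fin n) (Fin n) F).det ≠ 0 := (Matrix.isUnits_det_units V).ne_zero
  have hW0 : (W : Matrix (Fin n) (Fin n) F).det ≠ 0 := (Matrix.isUnits_det_units W).ne_zero
  let dd : Fin n → F := Function.update 1 ⟨0, hn⟩ d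
  have hprod : ∏ i, dd i = d := by
    rw [Finset.prod_eq_single ⟨0, hn⟩ (fun i _ hi => by simp [dd, hi]) (by simp)]
    simp [dd]
  let T : Matrix.GeneralLinearGroup (Fin n) F :=
    Matrix.GeneralLinearGroup.mkOfDetNeZero (Matrix.diagonal dd)
      (by rw [Matrix.det_diagonal, hprod, hd]; exact div_ne_zero hW0 hV0)
  have hT : (T : Matrix (Fin n) (Fin n) F) = Matrix.diagonal dd := rfl
  have hTU : T ∈ GU n F q := by
    refine diagonal_mem_GU (fun i => ?_) T hT
    by_cases hi : i = ⟨0, hn⟩
    · rw [hi, show dd ⟨0, hn⟩ = d by simp [dd], hd, div_pow, div_mul_div_comm,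
        det_norm_one hF ⟨W, hW⟩, det_norm_one hF ⟨V, hV⟩, div_one]
    · simp [dd, hi]
  refine ⟨V * T * W⁻¹, mul_mem (mul_mem hV hTU) (inv_mem hW), ?_, ?_⟩
  · rw [map_mul, map_mul, map_inv, mul_inv_eq_one]
    apply Units.ext
    rw [Units.val_mul, Matrix.GeneralLinearGroup.val_det_apply,
      Matrix.GeneralLinearGroup.val_det_apply, Matrix.GeneralLinearGroup.val_det_apply, hT,
      Matrix.det_diagonal, hprod, hd, mul_div_cancel₀ _ hV0]
  · have hTu : Matrix.diagonal u * (T : Matrix (Fin n) (Fin n) F) =
        (T : Matrix (Fin n) (Fin n) F) * Matrix.diagonal u := by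
      rw [hT, Matrix.diagonal_mul_diagonal, Matrix.diagonal_mul_diagonal]
      simp only [mul_comm]
    have e1 : ((x * (V * T) : Matrix.GeneralLinearGroup (Fin n) F) : Matrix (Fin n) (Fin n) F) =
        ((V * T : Matrix.GeneralLinearGroup (Fin n) F) : Matrix (Fin n) (Fin n) F) * Matrix.diagonal u := by
      rw [Units.val_mul, Units.val_mul, ← mul_assoc, hx, mul_assoc, hTu, mul_assoc]
    have e2 : x * (V * T) = V * T * (W⁻¹ * y * W) := by
      refine Units.ext (e1.trans ?_)
      simp only [Units.val_mul]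
      rw [mul_assoc ((W⁻¹ : Matrix.GeneralLinearGroup (Fin n) F) : Matrix (Fin n) (Fin n) F), hy,
        ← mul_assoc ((W⁻¹ : Matrix.GeneralLinearGroup (Fin n) F) : Matrix (Fin n) (Fin n) F),
        Units.inv_mul, one_mul]
    calc (V * T * W⁻¹)⁻¹ * x * (V * T * W⁻¹) = W * (V * T)⁻¹ * (x * (V * T)) * W⁻¹ := by group
      _ = y := by rw [e2]; group

end Cfsg.Agent.Lib.Elusive19.UnitaryEigen
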